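import Groth.Agent.Lib.SpecAff15.Dom
import Mathlib.FieldTheory.Minpoly.Field
import Mathlib.LinearAlgebra.Dimension.Finite
import Mathlib.Algebra.CharP.Lemmas
import Mathlib.RingTheory.Adjoin.Field
import Mathlib.Data.Nat.Prime.Factorial

/-!
# Residues of translation stable spaces of functions

Residues of a finite dimensional translation stable space of functions on the generic fibre are integral over the
coordinate rings at every point of the special fibre; hence the function field of the special fibre is algebraic over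
the global functions. If translations act unipotently, those of large prime order are trivial.
-/

set_option autoImplicit false
set_option linter.style.haveILetI false

universe u

open Polynomial

namespace Groth.Agent.SpecAff15

variable {V : Type u} [CommRing V] [IsDomain V] [ValuationRing V]
  {K : Type u} [Field K] [IsAlgClosed K] [Algebra V K] [IsFractionRing V K]
  {k : Type u} [Field k] {r : V →+* k}
  {F : Type u} [Field F] [Algebra K F] {E : Type u} [Field E] [Algebra k E]
  {O : Type u} [CommRing O] [IsLocalRing O] {c : V →+* O} {φ : O →+* F} {ψ : O →+* E}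

/-- A translation. -/
structure Trans (K : Type u) [Field K] {F : Type u} [Field F] [Algebra K F] {E : Type u} [Field E]
    {O : Type u} [CommRing O] (φ : O →+* F) (ψ : O →+* E) where
  σ : F ≃ₐ[K] F
  τ : E ≃+* E
  mem : ∀ o, ∃ o', φ o' = σ (φ o) ∧ ψ o' = τ (ψ o)

namespace Trans

variable (T T' : Trans K φ ψ)

/-- Composite translation. -/
def mul : Trans K φ ψ where
  σ := T'.σ.trans T.σ
  τ := T'.τ.trans T.τ
  mem o := by
    obtain ⟨o₁, h₁, h₁'⟩ := T'.mem o
    obtain ⟨o₂, h₂, h₂'⟩ := T.mem o₁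
    exact ⟨o₂, by rw [h₂, h₁]; rfl, by rw [h₂', h₁']; rfl⟩

/-- Powers of a translation. -/
def pow (T : Trans K φ ψ) : ℕ → Trans K φ ψ
  | 0 => ⟨AlgEquiv.refl, RingEquiv.refl E, fun o => ⟨o, rfl, rfl⟩⟩
  | n + 1 => T.mul (pow T n)

theorem pow_σ (n : ℕ) : ⇑(T.pow n).σ = T.σ^[n] := by
  induction n with
  | zero => rfl
  | succ n ih => rw [Function.iterate_succ']; funext x; show T.σ ((T.pow n).σ x) = _; rw [ih]; rfl

theorem pow_τ (n : ℕ) : ⇑(T.pow n).τ = T.τ^[n] := by
  induction n with
  | zero => rfl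
  | succ n ih => rw [Function.iterate_succ']; funext x; show T.τ ((T.pow n).τ x) = _; rw [ih]; rfl

end Trans

theorem comap_mem_dom (h : Setup (K := K) r c φ ψ) (T : Trans K φ ψ) {w : ValuationSubring F} (hw : w ∈ Dom φ) :
    w.comap T.σ.toRingEquiv.toRingHom ∈ Dom φ := by
  intro o
  obtain ⟨o', h1, h2⟩ := T.mem o
  have hmem : φ o ∈ w.comap T.σ.toRingEquiv.toRingHom := by
    show T.σ (φ o) ∈ w
    rw [← h1]; exact (hw o').1
  refine ⟨hmem, fun ho => ((w.comap _).valuation_lt_one_iff ⟨_, hmem⟩).1 ?_⟩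
  have ho' : o' ∈ IsLocalRing.maximalIdeal O := by
    rw [← h.ker_psi, h2, (h.ker_psi o).2 ho, map_zero]
  rw [IsLocalRing.mem_maximalIdeal, mem_nonunits_iff]
  intro hu
  obtain ⟨u, hu'⟩ := hu.exists_right_inv
  have : IsUnit (⟨φ o', (hw o').1⟩ : w) := by
    refine IsUnit.of_mul_eq_one ⟨T.σ (u : F), u.2⟩ (Subtype.ext ?_)
    show φ o' * T.σ (u : F) = 1
    rw [h1, ← map_mul]
    exact (congrArg T.σ (congrArg Subtype.val hu')).trans (map_one _)
  exact ((w.valuation_eq_one_iff _).1 this).not_lt ((hw o').2 ho')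

/-- The residue map to the residue field of a dominating valuation ring. -/
noncomputable def resE (h : Setup (K := K) r c φ ψ) {w : ValuationSubring F} (hw : w ∈ Dom φ) :
    E →+* IsLocalRing.ResidueField w :=
  RingHom.liftOfSurjective ψ h.surj ⟨(IsLocalRing.residue w).comp (φ.codRestrict w.toSubring fun o => (hw o).1),
    fun o ho => by
      rw [RingHom.mem_ker] at ho ⊢
      rw [RingHom.comp_apply, IsLocalRing.residue_eq_zero_iff]
      exact (w.valuation_lt_one_iff _).2 ((hw o).2 ((h.ker_psi o).1 ho))⟩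

theorem resE_apply (h : Setup (K := K) r c φ ψ) {w : ValuationSubring F} (hw : w ∈ Dom φ) (o : O) :
    resE h hw (ψ o) = IsLocalRing.residue w ⟨φ o, (hw o).1⟩ :=
  RingHom.liftOfRightInverse_comp_apply ψ _ _ _ o

/-- Residues of the elements of `W`. -/
def Res (w : ValuationSubring F) (W : Submodule K F) : Set (IsLocalRing.ResidueField w) :=
  {z | ∃ f : w, (f : F) ∈ W ∧ IsLocalRing.residue w f = z}

theorem res_smul (h : Setup (K := K) r c φ ψ) {w : ValuationSubring F} (hw : w ∈ Dom φ) (W : Submodule K F)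
    {z : IsLocalRing.ResidueField w} (hz : z ∈ Res w W) (e : k) : resE h hw (algebraMap k E e) * z ∈ Res w W := by
  obtain ⟨f, hf, rfl⟩ := hz
  obtain ⟨v, rfl⟩ := h.hr e
  refine ⟨⟨φ (c v), (hw _).1⟩ * f, ?_, ?_⟩
  · show φ (c v) * (f : F) ∈ W
    rw [h.compF, ← Algebra.smul_def]
    exact W.smul_mem _ hf
  · rw [map_mul, ← h.compE, resE_apply]

/-- The residues of a finite dimensional space are spanned by finitely many. -/
theorem exists_span (h : Setup (K := K) r c φ ψ) {w : ValuationSubring F} (hw : w ∈ Dom φ) (W : Submodule K F)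
    [FiniteDimensional K W] :
    ∃ b : Finset (IsLocalRing.ResidueField w), (↑b : Set (IsLocalRing.ResidueField w)) ⊆ Res w W ∧
      ∀ z ∈ Res w W, ∃ e : IsLocalRing.ResidueField w → k, z = ∑ y ∈ b, resE h hw (algebraMap k E (e y)) * y := by
  classical
  letI : Algebra k (IsLocalRing.ResidueField w) := ((resE h hw).comp (algebraMap k E)).toAlgebra
  obtain ⟨b, hb, hspan, hli⟩ := exists_linearIndependent k (Res w W)
  have hcard : ∀ s : Finset (IsLocalRing.ResidueField w), ↑s ⊆ b → s.card ≤ Module.finrank K W := by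
    intro s hs
    choose f hf hres using fun y : s => hb (hs y.2)
    have hind : LinearIndependent K fun y : s => (⟨(f y : F), hf y⟩ : W) := by
      rw [Fintype.linearIndependent_iff]
      intro a ha
      by_contra hne
      push_neg at hne
      obtain ⟨i₀, -, hi0, hv⟩ := exists_scale_ne (V := V) Finset.univ a (by
        obtain ⟨i, hi⟩ := hne; exact ⟨i, Finset.mem_univ _, hi⟩)
      choose v hv using fun i => hv i (Finset.mem_univ i)
      have h1 : ∑ y, φ (c (v y)) * (f y : F) = 0 := by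
        have h0 := congrArg Subtype.val ha
        rw [AddSubmonoidClass.coe_finset_sum, ZeroMemClass.coe_zero] at h0
        have h0' : ∑ y, algebraMap K F (a y) * (f y : F) = 0 := by
          rw [← h0]; exact Finset.sum_congr rfl fun y _ => (Algebra.smul_def _ _).symm
        refine mul_left_cancel₀ ((_root_.map_ne_zero (algebraMap K F)).2 hi0) ?_
        rw [mul_zero, ← h0', Finset.mul_sum]
        refine Finset.sum_congr rfl fun y _ => ?_
        rw [h.compF, ← hv y, map_mul]
        ring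
      have h2 : ∑ y, (⟨φ (c (v y)), (hw _).1⟩ : w) * f y = 0 := Subtype.ext (by
        rw [AddSubmonoidClass.coe_finset_sum]; exact h1)
      have h3 : ∑ y : s, r (v y) • (y : IsLocalRing.ResidueField w) = 0 := by
        have h4 := congrArg (IsLocalRing.residue w) h2
        rw [map_sum, map_zero] at h4
        rw [← h4]
        refine Finset.sum_congr rfl fun y _ => ?_
        rw [map_mul, hres, Algebra.smul_def, ← resE_apply h hw, h.compE]
        rfl
      have h5 := Fintype.linearIndependent_iff.1 (hli.comp (fun y : s => (⟨y, hs y.2⟩ : b))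
        fun y y' e => Subtype.ext (congrArg (fun q : b => (q : IsLocalRing.ResidueField w)) e)) _ h3 i₀
      have h6 : algebraMap V K (v i₀) = 1 := mul_right_cancel₀ hi0 (by rw [hv, one_mul])
      rw [(IsFractionRing.injective V K) (h6.trans (map_one _).symm), map_one] at h5
      exact one_ne_zero h5
    simpa using hind.fintype_card_le_finrank
  have hfin : b.Finite := by
    by_contra hinf
    obtain ⟨s, hs, hsc⟩ := Set.Infinite.exists_subset_card_eq hinf (Module.finrank K W + 1)
    have := hcard s hs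
    omega
  refine ⟨hfin.toFinset, by simpa using hb, fun z hz => ?_⟩
  have hz' : z ∈ Submodule.span k (↑hfin.toFinset : Set (IsLocalRing.ResidueField w)) := by
    rw [Set.Finite.coe_toFinset, hspan]; exact Submodule.subset_span hz
  obtain ⟨e, -, he⟩ := Submodule.mem_span_finset.1 hz'
  exact ⟨e, by rw [← he]; exact Finset.sum_congr rfl fun y _ => Algebra.smul_def _ _⟩

/-- Residue fields are algebraic over `E`. -/
theorem exists_monic_res (h : Setup (K := K) r c φ ψ) {w : ValuationSubring F} (hw : w ∈ Dom φ)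
    (z : IsLocalRing.ResidueField w) : ∃ q : E[X], q.Monic ∧ q.eval₂ (resE h hw) z = 0 := by
  classical
  obtain ⟨f, rfl⟩ := IsLocalRing.residue_surjective z
  obtain ⟨P, hP, hPf, hmon⟩ := exists_rel h (f : F)
  choose! a o ho hao using hmon
  obtain ⟨i₀, hi₀, ha0, hv⟩ := exists_scale_ne (V := V) P.support a ⟨P.natDegree,
    Polynomial.natDegree_mem_support_of_nonzero hP, fun h0 => by
      have := hao P.natDegree (fun h1 => hP (Polynomial.leadingCoeff_eq_zero.1 h1))
      rw [h0, map_zero, zero_mul] at this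
      exact hP (Polynomial.leadingCoeff_eq_zero.1 this)⟩
  choose! v hv using hv
  let Q : O[X] := ∑ i ∈ P.support, monomial i ((if i = i₀ then 1 else c (v i)) * o i)
  have hQ0 : Q.map ψ ≠ 0 := fun h0 => by
    have h1 := congrArg (fun p => Polynomial.coeff p i₀) h0
    simp only [Polynomial.coeff_map, Q, Polynomial.finsetSum_coeff, Polynomial.coeff_monomial,
      Finset.sum_ite_eq', hi₀, if_true, one_mul, Polynomial.coeff_zero] at h1
    exact ((h.isUnit_iff _).1 (ho i₀ (Polynomial.mem_support_iff.1 hi₀))) h1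
  let Qw : w[X] := Q.map (φ.codRestrict w.toSubring fun o => (hw o).1)
  have hQf : Qw.eval f = 0 := by
    apply Subtype.val_injective
    show w.subtype (Qw.eval f) = 0
    rw [← Polynomial.eval₂_at_apply, ← Polynomial.eval_map, Polynomial.map_map,
      show w.subtype.comp (φ.codRestrict w.toSubring fun o => (hw o).1) = φ from rfl]
    refine mul_left_cancel₀ ((_root_.map_ne_zero (algebraMap K F)).2 ha0) ?_
    rw [mul_zero]
    refine Eq.trans ?_ hPf
    conv_rhs => rw [Polynomial.eval_eq_sum, Polynomial.sum_def]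
    simp only [Q, Polynomial.map_sum, Polynomial.map_monomial, Polynomial.eval_finsetSum,
      Polynomial.eval_monomial, Finset.mul_sum]
    refine Finset.sum_congr rfl fun i hi => ?_
    rw [hao i (Polynomial.mem_support_iff.1 hi), ← mul_assoc, map_mul, ← mul_assoc]
    congr 2
    split_ifs with hii
    · rw [map_one, mul_one, hii]
    · rw [h.compF, ← hv i hi, map_mul, mul_comm]
  refine ⟨(Q.map ψ) * C ((Q.map ψ).leadingCoeff)⁻¹, Polynomial.monic_mul_leadingCoeff_inv hQ0, ?_⟩
  rw [Polynomial.eval₂_mul, ← Polynomial.eval_map, Polynomial.map_map]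
  rw [show (resE h hw).comp ψ = (IsLocalRing.residue w).comp (φ.codRestrict w.toSubring fun o => (hw o).1) from
    RingHom.ext fun o => resE_apply h hw o]
  rw [← Polynomial.map_map, Polynomial.eval_map, Polynomial.eval₂_at_apply]
  erw [hQf]
  rw [map_zero, zero_mul]

/-- Residues of `W` are integral over `A`. -/
def Good (h : Setup (K := K) r c φ ψ) (W : Submodule K F) (A : Subalgebra k E) : Prop :=
  ∀ w, ∀ hw : w ∈ Dom φ, ∀ z ∈ Res w W, ((resE h hw).comp A.toSubring.subtype).IsIntegralElem z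

/-- A finite set of coefficients ensures integrality. -/
theorem exists_finset_good (h : Setup (K := K) r c φ ψ) (W : Submodule K F) [FiniteDimensional K W] :
    ∃ C : Finset E, ∀ A : Subalgebra k E, (↑C : Set E) ⊆ A → Good h W A := by
  classical
  choose b hbs hb using fun w : Dom φ => exists_span h w.2 W
  choose q hq hqz using fun w : Dom φ => fun z => exists_monic_res h w.2 z
  haveI := (Dom.finite h).fintype
  refine ⟨Finset.univ.biUnion fun w : Dom φ => (b w).biUnion fun z => (q w z).coeffs, fun A hA w hw z hz => ?_⟩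
  obtain ⟨e, rfl⟩ := hb ⟨w, hw⟩ z hz
  refine Finset.sum_induction _ _ (fun _ _ => RingHom.IsIntegralElem.add _) (RingHom.isIntegralElem_zero _)
    fun y hy => ?_
  refine RingHom.IsIntegralElem.mul _ ?_ ?_
  · exact RingHom.isIntegralElem_map _ (x := (⟨algebraMap k E (e y), A.algebraMap_mem _⟩ : A.toSubring))
  · obtain ⟨p, hp, -, hpm⟩ := Polynomial.lifts_and_degree_eq_and_monic
      (f := A.toSubring.subtype) (p := q ⟨w, hw⟩ y) (by
        rw [Polynomial.lifts_iff_coeff_lifts]
        intro i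
        by_cases hi : (q ⟨w, hw⟩ y).coeff i = 0
        · exact ⟨0, by simp [hi]⟩
        · exact ⟨⟨_, hA (Finset.mem_biUnion.2 ⟨⟨w, hw⟩, Finset.mem_univ _, Finset.mem_biUnion.2 ⟨y, hy,
            Polynomial.coeff_mem_coeffs hi⟩⟩)⟩, rfl⟩) (hq _ y)
    exact ⟨p, hpm, by rw [← Polynomial.eval₂_map, hp]; exact hqz ⟨w, hw⟩ y⟩

theorem tau_resE (h : Setup (K := K) r c φ ψ) (T : Trans K φ ψ) {w : ValuationSubring F} (hw : w ∈ Dom φ)
    (ρ : w.comap T.σ.toRingEquiv.toRingHom →+* w) (hρ : ∀ x, (ρ x : F) = T.σ x)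
    [IsLocalHom ρ] (e : E) :
    IsLocalRing.ResidueField.map ρ (resE h (comap_mem_dom h T hw) e) = resE h hw (T.τ e) := by
  obtain ⟨o, rfl⟩ := h.surj e
  obtain ⟨o', h1, h2⟩ := T.mem o
  rw [resE_apply, ← h2, resE_apply, IsLocalRing.ResidueField.map_residue]
  congr 1
  exact Subtype.ext ((hρ _).trans h1.symm)

theorem exists_comapHom (σ : F ≃ₐ[K] F) (w : ValuationSubring F) :
    ∃ ρ : w.comap σ.toRingEquiv.toRingHom →+* w, IsLocalHom ρ ∧ ∀ x, (ρ x : F) = σ x := by
  let ρ : w.comap σ.toRingEquiv.toRingHom →+* w :=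
    (σ.toRingEquiv.toRingHom.comp (w.comap σ.toRingEquiv.toRingHom).subtype).codRestrict w.toSubring
      fun x => x.2
  refine ⟨ρ, ⟨fun a ha => ?_⟩, fun x => rfl⟩
  obtain ⟨b, hb⟩ := ha.exists_right_inv
  refine IsUnit.of_mul_eq_one (⟨σ.symm (b : F), show σ (σ.symm (b : F)) ∈ w by
    rw [σ.apply_symm_apply]; exact b.2⟩ : w.comap σ.toRingEquiv.toRingHom) (Subtype.ext ?_)
  show (a : F) * σ.symm (b : F) = 1
  apply σ.injective
  rw [map_mul, σ.apply_symm_apply, map_one]
  exact congrArg Subtype.val hb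

/-- Translations transport integrality. -/
theorem Good.trans {h : Setup (K := K) r c φ ψ} {W : Submodule K F} {A B : Subalgebra k E} (hA : Good h W A)
    (T : Trans K φ ψ) (hW : ∀ f ∈ W, T.σ.symm f ∈ W) (hAB : ∀ e ∈ A, T.τ e ∈ B) : Good h W B := by
  intro w hw z hz
  obtain ⟨ρ, hl, hρ⟩ := exists_comapHom T.σ w
  haveI := hl
  obtain ⟨f, hf, rfl⟩ := hz
  let f' : w.comap T.σ.toRingEquiv.toRingHom := ⟨T.σ.symm f, show T.σ (T.σ.symm (f : F)) ∈ w by
    rw [T.σ.apply_symm_apply]; exact f.2⟩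
  obtain ⟨p, hp, hpz⟩ := hA _ (comap_mem_dom h T hw) _ ⟨f', hW _ hf, rfl⟩
  let τ₀ : A.toSubring →+* B.toSubring := (T.τ.toRingHom.comp A.toSubring.subtype).codRestrict B.toSubring
    fun x => hAB _ x.2
  refine ⟨p.map τ₀, hp.map _, ?_⟩
  have hf' : IsLocalRing.ResidueField.map ρ (IsLocalRing.residue _ f') = IsLocalRing.residue w f := by
    rw [IsLocalRing.ResidueField.map_residue]
    congr 1
    exact Subtype.ext ((hρ f').trans (T.σ.apply_symm_apply _))
  have hc : (IsLocalRing.ResidueField.map ρ).comp ((resE h (comap_mem_dom h T hw)).comp A.toSubring.subtype) =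
      ((resE h hw).comp B.toSubring.subtype).comp τ₀ := RingHom.ext fun x => tau_resE h T hw ρ hρ _
  rw [Polynomial.eval₂_map, ← hc, ← hf', ← Polynomial.hom_eval₂, hpz, map_zero]

/-- The function field of the special fibre is algebraic over the global functions. -/
theorem isAlgebraic_of_translations (h : Setup (K := K) r c φ ψ) {ι : Type*} (A : ι → Subalgebra k E)
    (hA : ∀ x e, IsIntegral (A x) e → e ∈ A x) (P : Set (Trans K φ ψ))
    (hmove : ∀ (C : Finset E) (x : ι), ∃ T ∈ P, ∃ y, (↑C : Set E) ⊆ A y ∧ ∀ e ∈ A y, T.τ e ∈ A x)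
    (hW : ∀ f : F, ∃ W : Submodule K F, FiniteDimensional K W ∧
      (∀ T ∈ P, ∀ g ∈ W, T.σ.symm g ∈ W) ∧ ∃ f₁ ∈ W, ∃ f₂ ∈ W, f₂ ≠ 0 ∧ f = f₁ / f₂)
    (a : E) : IsAlgebraic (⨅ x, A x : Subalgebra k E) a := by
  classical
  set Γ := (⨅ x, A x : Subalgebra k E) with hΓ
  rcases eq_or_ne a 0 with rfl | ha
  · exact isAlgebraic_zero
  obtain ⟨o, rfl⟩ := h.surj a
  have ho : IsUnit o := (h.isUnit_iff o).2 ha
  obtain ⟨W, hWf, hWs, f₁, hf₁, f₂, hf₂, hf₂0, hf⟩ := hW (φ o)
  haveI := hWf
  obtain ⟨C, hC⟩ := exists_finset_good h W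
  have hgood : ∀ x, Good h W (A x) := fun x => by
    obtain ⟨T, hT, y, hy, hyx⟩ := hmove C x
    exact (hC (A y) hy).trans T (hWs T hT) hyx
  obtain ⟨w, hw⟩ := Dom.nonempty φ
  letI : Algebra E (IsLocalRing.ResidueField w) := (resE h hw).toAlgebra
  -- residues of `W` are algebraic over the global functions
  have halg : ∀ z ∈ Res w W, IsAlgebraic Γ z := by
    intro z hz
    have hzE : IsIntegral E z := exists_monic_res h hw z
    have hcoef : ∀ i, (minpoly E z).coeff i ∈ Γ := by
      intro i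
      rw [hΓ, Algebra.mem_iInf]
      intro x
      refine hA x _ ?_
      obtain ⟨p, hp, hpz⟩ := hgood x w hw z hz
      refine Polynomial.isIntegral_coeff_of_dvd (p : (A x)[X]) (minpoly E z) hp (minpoly.monic hzE) ?_ i
      refine minpoly.dvd E z ?_
      rw [Polynomial.aeval_def, Polynomial.eval₂_map]
      exact hpz
    obtain ⟨p, hp, -, hpm⟩ := Polynomial.lifts_and_degree_eq_and_monic (f := algebraMap Γ E) (p := minpoly E z) (by
      rw [Polynomial.lifts_iff_coeff_lifts]
      exact fun i => ⟨⟨_, hcoef i⟩, rfl⟩) (minpoly.monic hzE)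
    refine IsIntegral.isAlgebraic ⟨p, hpm, ?_⟩
    have := minpoly.aeval E z
    rw [Polynomial.aeval_def, ← hp, Polynomial.eval₂_map] at this
    exact this
  have hf₁0 : f₁ ≠ 0 := fun h0 => by
    have := Dom.unit hw ho
    rw [hf, h0, zero_div, map_zero] at this
    exact zero_ne_one this
  obtain ⟨c₁, hc₁, hv₁⟩ := exists_mul_unit h hw hf₁0
  obtain ⟨c₂, hc₂, hv₂⟩ := exists_mul_unit h hw hf₂0
  have hc12 : w.valuation (algebraMap K F (c₁ / c₂)) = 1 := by
    have e : algebraMap K F c₁ * f₁ = algebraMap K F (c₁ / c₂) * φ o * (algebraMap K F c₂ * f₂) := by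
      rw [hf, map_div₀]
      field_simp [(_root_.map_ne_zero (algebraMap K F)).2 hc₂]
    rw [e, map_mul, map_mul, Dom.unit hw ho, hv₂, mul_one, mul_one] at hv₁
    exact hv₁
  obtain ⟨v, hv⟩ := (mem_iff h hw _).1 ((w.valuation_le_one_iff _).1 hc12.le)
  let z₁ : w := ⟨algebraMap K F c₁ * f₁, (w.valuation_le_one_iff _).1 hv₁.le⟩
  let z₂ : w := ⟨algebraMap K F c₂ * f₂, (w.valuation_le_one_iff _).1 hv₂.le⟩
  have hz₂ : IsLocalRing.residue w z₂ ≠ 0 := by
    rw [Ne, IsLocalRing.residue_eq_zero_iff, w.valuation_lt_one_iff]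
    exact hv₂.not_lt
  have hrel : resE h hw (algebraMap k E (r v)) * resE h hw (ψ o) * IsLocalRing.residue w z₂ =
      IsLocalRing.residue w z₁ := by
    rw [← h.compE, resE_apply, resE_apply, ← map_mul, ← map_mul]
    congr 1
    apply Subtype.ext
    show φ (c v) * φ o * (algebraMap K F c₂ * f₂) = algebraMap K F c₁ * f₁
    rw [h.compF, hv, hf, map_div₀]
    field_simp [(_root_.map_ne_zero (algebraMap K F)).2 hc₂]
  have hr0 : resE h hw (algebraMap k E (r v)) ≠ 0 := by
    rw [← h.compE, resE_apply, Ne, IsLocalRing.residue_eq_zero_iff, w.valuation_lt_one_iff]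
    show ¬ w.valuation (φ (c v)) < 1
    rw [h.compF, hv]
    exact hc12.not_lt
  have hmem : ∀ d ∈ W, ∀ (hd : d ∈ w), IsAlgebraic Γ (IsLocalRing.residue w ⟨d, hd⟩) :=
    fun d hd hdw => halg _ ⟨_, hd, rfl⟩
  have h1 := hmem _ (show algebraMap K F c₁ * f₁ ∈ W by rw [← Algebra.smul_def]; exact W.smul_mem _ hf₁) z₁.2
  have h2 := hmem _ (show algebraMap K F c₂ * f₂ ∈ W by rw [← Algebra.smul_def]; exact W.smul_mem _ hf₂) z₂.2
  have h3 : IsAlgebraic Γ (resE h hw (algebraMap k E (r v))) :=
    (isAlgebraic_algebraMap (A := IsLocalRing.ResidueField w)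
      (⟨algebraMap k E (r v), Γ.algebraMap_mem _⟩ : Γ) :)
  have e : resE h hw (ψ o) = IsLocalRing.residue w z₁ *
      (resE h hw (algebraMap k E (r v)) * IsLocalRing.residue w z₂)⁻¹ := by
    rw [eq_mul_inv_iff_mul_eq₀ (mul_ne_zero hr0 hz₂), ← hrel]
    ring
  haveI : Nontrivial Γ := inferInstance
  have h4 : IsAlgebraic Γ (algebraMap E (IsLocalRing.ResidueField w) (ψ o)) := by
    show IsAlgebraic Γ (resE h hw (ψ o))
    rw [e]
    exact h1.mul (IsAlgebraic.inv (h3.mul h2))
  exact (isAlgebraic_algebraMap_iff (resE h hw).injective).1 h4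

/-- Finite order and unipotence force triviality, up to the characteristic. -/
theorem fix_of_unipotent {L : Type u} [Field L] (ρ : L →+* L) (z : L) {N : ℕ} (hN : 0 < N) (hper : ρ^[N] z = z)
    {D : ℕ} (hD : (fun y => ρ y - y)^[D] z = 0) : ∃ j, ρ^[(ringExpChar L) ^ j] z = z := by
  let R := AddMonoid.End L
  let ρ' : R := ρ.toAddMonoidHom
  have hit : ∀ n (y : L), (ρ' ^ n) y = ρ^[n] y := fun n y => by
    induction n with
    | zero => rfl
    | succ n ih => rw [pow_succ', Function.iterate_succ_apply', ← ih]; rfl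
  have hsub : ∀ n (y : L), ((ρ' - 1) ^ n) y = (fun y => ρ y - y)^[n] y := fun n y => by
    induction n with
    | zero => rfl
    | succ n ih => rw [pow_succ', Function.iterate_succ_apply', ← ih]; rfl
  obtain ⟨q, hq⟩ := ExpChar.exists L
  haveI := hq
  rw [ringExpChar.eq L q]
  cases hq with
  | zero =>
    refine ⟨0, ?_⟩
    show ρ z = z
    induction D with
    | zero => rw [show z = 0 from hD, map_zero]
    | succ D ih =>
      by_cases hD0 : D = 0
      · subst hD0; exact sub_eq_zero.1 hD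
      · obtain ⟨D, rfl⟩ := Nat.exists_eq_succ_of_ne_zero hD0
        refine ih ?_
        rw [Function.iterate_succ_apply']
        set v := (fun y => ρ y - y)^[D] z
        have h2 : ρ (ρ v - v) = ρ v - v := sub_eq_zero.1 (by
          rw [Function.iterate_succ_apply', Function.iterate_succ_apply'] at hD; exact hD)
        have h3 : ∀ n, ρ^[n] v = v + n • (ρ v - v) := fun n => by
          induction n with
          | zero => simp
          | succ n ih => rw [Function.iterate_succ_apply', ih, map_add, map_nsmul, h2, succ_nsmul]; abel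
        have h4 : ρ^[N] v = v := by
          have hc : Function.Commute (ρ^[N]) (fun y => ρ y - y) := fun y => by
            show ρ^[N] (ρ y - y) = ρ (ρ^[N] y) - ρ^[N] y
            rw [← hit, ← hit, map_sub, hit, hit, ← Function.iterate_succ_apply, Function.iterate_succ_apply']
          rw [show v = (fun y => ρ y - y)^[D] z from rfl, (hc.iterate_right D).eq z, hper]
        have h5 := h3 N
        rw [h4, left_eq_add, nsmul_eq_mul, mul_eq_zero] at h5
        exact h5.resolve_left (Nat.cast_ne_zero.2 hN.ne')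
  | prime hp =>
    refine ⟨D, ?_⟩
    haveI : Fact q.Prime := ⟨hp⟩
    haveI : Nontrivial R := ⟨0, 1, fun h => zero_ne_one (DFunLike.congr_fun h (1 : L))⟩
    haveI : CharP R q := by
      refine (CharP.charP_iff_prime_eq_zero hp).2 (DFunLike.ext _ _ fun y => ?_)
      rw [AddMonoid.End.natCast_apply]
      show q • y = 0
      rw [nsmul_eq_mul, CharP.cast_eq_zero, zero_mul]
    have h1 : (ρ' - 1) ^ q ^ D = ρ' ^ q ^ D - 1 := by
      haveI : ExpChar R q := ExpChar.prime hp
      rw [sub_pow_expChar_pow_of_commute (p := q) (n := D) (h := Commute.one_right ρ'), one_pow]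
    have h2 : ((ρ' - 1) ^ q ^ D) z = 0 := by
      obtain ⟨e, he⟩ := Nat.exists_eq_add_of_le (Nat.lt_pow_self hp.one_lt (n := D)).le
      rw [he, add_comm D e, hsub, Function.iterate_add_apply, hD]
      exact Function.iterate_fixed (by simp) e
    rw [h1] at h2
    rw [← hit]
    exact sub_eq_zero.1 h2

/-- Unipotent translations of large prime order are trivial. -/
theorem exists_bound_of_unipotent (h : Setup (K := K) r c φ ψ) :
    ∃ n : ℕ, ∀ ℓ : ℕ, ℓ.Prime → n < ℓ → ∀ T : Trans K φ ψ, T.τ^[ℓ] = id →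
      (∀ e, T.τ (algebraMap k E e) = algebraMap k E e) →
      (∀ f : F, ∃ W : Submodule K F, FiniteDimensional K W ∧
        (∀ g ∈ W, T.σ g ∈ W ∧ ∀ s, ∃ D, (fun y => T.σ^[s] y - y)^[D] g = 0) ∧
        ∃ f₁ ∈ W, ∃ f₂ ∈ W, f₂ ≠ 0 ∧ f = f₁ / f₂) →
      ∀ e, T.τ e = e := by
  classical
  haveI := (Dom.finite h).fintype
  let n := Fintype.card (Dom φ)
  let M := n.factorial
  refine ⟨max n (ringExpChar k), fun ℓ hℓ hn T hper _ hW => ?_⟩
  have hτN : ∀ N e, (T.τ)^[ℓ * N] e = e := fun N e => by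
    rw [Function.iterate_mul, hper, Function.iterate_id]; rfl
  -- a power fixing every valuation ring
  let cm : ∀ T : Trans K φ ψ, Dom φ → Dom φ := fun T w => ⟨_, comap_mem_dom h T w.2⟩
  have hcm : ∀ m w, cm (T.pow m) w = (cm T)^[m] w := fun m => by
    induction m with
    | zero => exact fun w => Subtype.ext (ValuationSubring.ext _ _ fun x => Iff.rfl)
    | succ m ih =>
      intro w
      rw [Function.iterate_succ_apply, ← ih]
      exact Subtype.ext (ValuationSubring.ext _ _ fun x => Iff.rfl)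
  have hinj : Function.Injective (cm T) := fun w w' e => Subtype.ext (ValuationSubring.ext _ _ fun x => by
    have := (Iff.of_eq (congrArg (fun q : Dom φ => T.σ.symm x ∈ q.1) e) :)
    change T.σ (T.σ.symm x) ∈ w.1 ↔ T.σ (T.σ.symm x) ∈ w'.1 at this
    rwa [T.σ.apply_symm_apply] at this)
  let π : Equiv.Perm (Dom φ) := Equiv.ofBijective _ (Finite.injective_iff_bijective.1 hinj)
  have hπ : π ^ M = 1 := by
    have := pow_card_eq_one (x := π)
    rwa [Fintype.card_perm] at this
  have hfix : ∀ w ∈ Dom φ, ∀ x, (T.pow M).σ x ∈ w ↔ x ∈ w := fun w hw x => by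
    have e : (cm T)^[M] ⟨w, hw⟩ = ⟨w, hw⟩ := by
      show (⇑π)^[M] _ = _
      rw [← Equiv.Perm.coe_pow, hπ]; rfl
    rw [← hcm] at e
    exact (Iff.of_eq (congrArg (fun q : Dom φ => x ∈ q.1) e) :)
  obtain ⟨w, hw⟩ := Dom.nonempty φ
  set T' := T.pow M with hT'
  obtain ⟨ρ₀, hl₀, hρ₀⟩ : ∃ ρ₀ : w →+* w, IsLocalHom ρ₀ ∧ ∀ x, (ρ₀ x : F) = T'.σ x := by
    refine ⟨(T'.σ.toRingEquiv.toRingHom.comp w.subtype).codRestrict w.toSubring fun x => (hfix w hw _).2 x.2,
      ⟨fun a ha => ?_⟩, fun _ => rfl⟩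
    obtain ⟨b, hb⟩ := ha.exists_right_inv
    refine IsUnit.of_mul_eq_one (⟨T'.σ.symm (b : F), (hfix w hw _).1 (by
      rw [T'.σ.apply_symm_apply]; exact b.2)⟩ : w) (Subtype.ext ?_)
    show (a : F) * T'.σ.symm (b : F) = 1
    apply T'.σ.injective
    rw [map_mul, T'.σ.apply_symm_apply, map_one]
    exact congrArg Subtype.val hb
  haveI := hl₀
  let ρ := IsLocalRing.ResidueField.map ρ₀
  have hρE : ∀ e, ρ (resE h hw e) = resE h hw (T'.τ e) := fun e => by
    obtain ⟨o, rfl⟩ := h.surj e
    obtain ⟨o', h1, h2⟩ := T'.mem o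
    rw [resE_apply, ← h2, resE_apply]
    show IsLocalRing.ResidueField.map ρ₀ _ = _
    rw [IsLocalRing.ResidueField.map_residue]
    congr 1
    exact Subtype.ext ((hρ₀ _).trans h1.symm)
  have hρℓ : ∀ e, ρ^[ℓ] (resE h hw e) = resE h hw e := fun e => by
    have : ∀ m, ρ^[m] (resE h hw e) = resE h hw ((T'.τ)^[m] e) := fun m => by
      induction m with
      | zero => rfl
      | succ m ih => rw [Function.iterate_succ_apply', ih, hρE, Function.iterate_succ_apply']
    rw [this, hT', Trans.pow_τ, ← Function.iterate_mul, mul_comm, hτN]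
  -- residues of `W` are fixed by a power
  have hres : ∀ (g : w) (D : ℕ), (fun y => T'.σ y - y)^[D] (g : F) = 0 →
      ∃ j, ρ^[(ringExpChar k) ^ j] (IsLocalRing.residue w g) = IsLocalRing.residue w g := by
    intro g D hD
    set z := IsLocalRing.residue w g
    obtain ⟨q, hq, hqz⟩ := exists_monic_res h hw z
    have hroot : ∀ m, ρ^[ℓ * m] z ∈ (q.map (resE h hw)).roots.toFinset := fun m => by
      rw [Multiset.mem_toFinset, Polynomial.mem_roots ((hq.map _).ne_zero), Polynomial.IsRoot, Polynomial.eval_map]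
      induction m with
      | zero => exact hqz
      | succ m ih =>
        rw [Nat.mul_succ, add_comm, Function.iterate_add_apply, ← RingHom.coe_pow,
          show (resE h hw) = (ρ ^ ℓ).comp (resE h hw) from RingHom.ext fun e => by
            rw [RingHom.comp_apply, RingHom.coe_pow]; exact (hρℓ e).symm,
          ← Polynomial.hom_eval₂, ih, map_zero]
    obtain ⟨m₁, -, m₂, -, hne, heq⟩ := Finset.exists_ne_map_eq_of_card_lt_of_maps_to
      (s := Finset.range ((q.map (resE h hw)).roots.toFinset.card + 1))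
      (t := (q.map (resE h hw)).roots.toFinset) (f := fun m => ρ^[ℓ * m] z) (by simp) fun m _ => hroot m
    obtain ⟨N, hN, hNz⟩ : ∃ N, 0 < N ∧ ρ^[N] z = z := by
      wlog hlt : m₁ < m₂ generalizing m₁ m₂
      · exact this m₂ m₁ hne.symm heq.symm (lt_of_le_of_ne (not_lt.1 hlt) hne.symm)
      refine ⟨ℓ * (m₂ - m₁), Nat.mul_pos hℓ.pos (Nat.sub_pos_of_lt hlt),
        (ρ.injective.iterate (ℓ * m₁)) ?_⟩
      rw [← Function.iterate_add_apply, ← Nat.mul_add, Nat.add_sub_cancel' hlt.le]
      exact heq.symm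
    have hDz : (fun y => ρ y - y)^[D] z = 0 := by
      have hstep : ∀ m, ∃ g' : w, (g' : F) = (fun y => T'.σ y - y)^[m] (g : F) ∧
          IsLocalRing.residue w g' = (fun y => ρ y - y)^[m] z := fun m => by
        induction m with
        | zero => exact ⟨g, rfl, rfl⟩
        | succ m ih =>
          obtain ⟨g', h1, h2⟩ := ih
          refine ⟨ρ₀ g' - g', ?_, ?_⟩
          · rw [Function.iterate_succ_apply', AddSubgroupClass.coe_sub, hρ₀, h1]
          · rw [Function.iterate_succ_apply', map_sub, h2.symm]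
            rfl
      obtain ⟨g', h1, h2⟩ := hstep D
      rw [← h2, show g' = 0 from Subtype.ext (h1.trans hD), map_zero]
    obtain ⟨j, hj⟩ := fix_of_unipotent ρ z hN hNz hDz
    refine ⟨j, ?_⟩
    haveI : ExpChar k (ringExpChar k) := inferInstance
    haveI : ExpChar (IsLocalRing.ResidueField w) (ringExpChar k) :=
      expChar_of_injective_ringHom ((resE h hw).comp (algebraMap k E)).injective _
    rwa [ringExpChar.eq (IsLocalRing.ResidueField w) (ringExpChar k)] at hj
  intro e
  rcases eq_or_ne e 0 with rfl | he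
  · exact map_zero _
  obtain ⟨o, rfl⟩ := h.surj e
  have ho : IsUnit o := (h.isUnit_iff o).2 he
  obtain ⟨W, -, hWs, f₁, hf₁, f₂, hf₂, hf₂0, hf⟩ := hW (φ o)
  have hf₁0 : f₁ ≠ 0 := fun h0 => by
    have := Dom.unit hw ho
    rw [hf, h0, zero_div, map_zero] at this
    exact zero_ne_one this
  obtain ⟨c₁, hc₁, hv₁⟩ := exists_mul_unit h hw hf₁0
  obtain ⟨c₂, hc₂, hv₂⟩ := exists_mul_unit h hw hf₂0
  have hc12 : w.valuation (algebraMap K F (c₁ / c₂)) = 1 := by
    have e : algebraMap K F c₁ * f₁ = algebraMap K F (c₁ / c₂) * φ o * (algebraMap K F c₂ * f₂) := by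
      rw [hf, map_div₀]
      field_simp [(_root_.map_ne_zero (algebraMap K F)).2 hc₂]
    rw [e, map_mul, map_mul, Dom.unit hw ho, hv₂, mul_one, mul_one] at hv₁
    exact hv₁
  let u : w := ⟨algebraMap K F (c₁ / c₂), (w.valuation_le_one_iff _).1 hc12.le⟩
  let z₁ : w := ⟨algebraMap K F c₁ * f₁, (w.valuation_le_one_iff _).1 hv₁.le⟩
  let z₂ : w := ⟨algebraMap K F c₂ * f₂, (w.valuation_le_one_iff _).1 hv₂.le⟩
  have hrel : IsLocalRing.residue w u * resE h hw (ψ o) * IsLocalRing.residue w z₂ = IsLocalRing.residue w z₁ := by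
    rw [resE_apply, ← map_mul, ← map_mul]
    congr 1
    apply Subtype.ext
    show algebraMap K F (c₁ / c₂) * φ o * (algebraMap K F c₂ * f₂) = algebraMap K F c₁ * f₁
    rw [hf, map_div₀]
    field_simp [(_root_.map_ne_zero (algebraMap K F)).2 hc₂]
  have hunip : ∀ g ∈ W, ∃ D, (fun y => T'.σ y - y)^[D] g = 0 := fun g hg => by
    obtain ⟨D, hD⟩ := (hWs g hg).2 M
    exact ⟨D, by rw [hT', Trans.pow_σ]; exact hD⟩
  obtain ⟨D₁, hD₁⟩ := hunip (z₁ : F) (show algebraMap K F c₁ * f₁ ∈ W by
    rw [← Algebra.smul_def]; exact W.smul_mem _ hf₁)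
  obtain ⟨D₂, hD₂⟩ := hunip (z₂ : F) (show algebraMap K F c₂ * f₂ ∈ W by
    rw [← Algebra.smul_def]; exact W.smul_mem _ hf₂)
  obtain ⟨j₁, hj₁⟩ := hres z₁ D₁ hD₁
  obtain ⟨j₂, hj₂⟩ := hres z₂ D₂ hD₂
  have hu : ρ (IsLocalRing.residue w u) = IsLocalRing.residue w u := by
    show IsLocalRing.ResidueField.map ρ₀ _ = _
    rw [IsLocalRing.ResidueField.map_residue]
    congr 1
    exact Subtype.ext ((hρ₀ u).trans (T'.σ.commutes _))
  set p := ringExpChar k
  set J := j₁ + j₂
  have hiter : ∀ {x : IsLocalRing.ResidueField w} {a b : ℕ}, a ∣ b → ρ^[a] x = x → ρ^[b] x = x := by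
    intro x a b hab hx
    obtain ⟨t, rfl⟩ := hab
    rw [Function.iterate_mul]
    exact Function.iterate_fixed hx t
  have hz₂ : IsLocalRing.residue w z₂ ≠ 0 := by
    rw [Ne, IsLocalRing.residue_eq_zero_iff, w.valuation_lt_one_iff]
    exact hv₂.not_lt
  have hu0 : IsLocalRing.residue w u ≠ 0 := by
    rw [Ne, IsLocalRing.residue_eq_zero_iff, w.valuation_lt_one_iff]
    exact hc12.not_lt
  have hfixE : (T.τ)^[M * p ^ J] (ψ o) = ψ o := by
    apply (resE h hw).injective
    refine mul_left_cancel₀ hu0 (mul_right_cancel₀ hz₂ ?_)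
    rw [hrel]
    have h1 : ρ^[p ^ J] (IsLocalRing.residue w z₁) = IsLocalRing.residue w z₁ :=
      hiter (pow_dvd_pow p (Nat.le_add_right j₁ j₂)) hj₁
    have h2 : ρ^[p ^ J] (IsLocalRing.residue w z₂) = IsLocalRing.residue w z₂ :=
      hiter (pow_dvd_pow p (Nat.le_add_left j₂ j₁)) hj₂
    have h3 : ρ^[p ^ J] (IsLocalRing.residue w u) = IsLocalRing.residue w u := Function.iterate_fixed hu _
    have h4 : ∀ m, ρ^[m] (resE h hw (ψ o)) = resE h hw ((T'.τ)^[m] (ψ o)) := fun m => by
      induction m with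
      | zero => rfl
      | succ m ih => rw [Function.iterate_succ_apply', ih, hρE, Function.iterate_succ_apply']
    rw [← h1, ← hrel, iterate_map_mul, iterate_map_mul, h2, h3, h4, hT', Trans.pow_τ,
      ← Function.iterate_mul]
  have hcop : Nat.Coprime ℓ (M * p ^ J) := by
    refine Nat.Coprime.mul_right ?_ (Nat.Coprime.pow_right _ ?_)
    · rw [hℓ.coprime_iff_not_dvd, Nat.Prime.dvd_factorial hℓ]
      exact not_le.2 (lt_of_le_of_lt (le_max_left _ _) hn)
    · rw [hℓ.coprime_iff_not_dvd]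
      exact fun hd => absurd (Nat.le_of_dvd (expChar_pos k _) hd) (not_le.2 (lt_of_le_of_lt (le_max_right _ _) hn))
  have h5 : Function.IsPeriodicPt T.τ (Nat.gcd ℓ (M * p ^ J)) (ψ o) :=
    Function.IsPeriodicPt.gcd (show T.τ^[ℓ] (ψ o) = ψ o by rw [hper]; rfl) hfixE
  rw [hcop.gcd_eq_one] at h5
  exact h5

end Groth.Agent.SpecAff15
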