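import Groth.Agent.Lib.AffGrp19.Main
import Groth.Agent.Lib.TorPts21.UnipPart
import Groth.Agent.Lib.TorPts21.WeylNorm
import Groth.Agent.Lib.BorelFix21.Pts
import Mathlib.RingTheory.RootsOfUnity.AlgebraicallyClosed

/-!
# Criteria of affineness and of absence of tori on rational points
-/

set_option autoImplicit false
set_option linter.style.haveILetI false
set_option backward.isDefEq.respectTransparency.types false
universe u

open CategoryTheory Limits MonoidalCategory CartesianMonoidalCategory MonObj AlgebraicGeometry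

noncomputable section

namespace Groth.Agent.SpecAff15

open InvRing21 TorPts21

attribute [local instance] InvRing21.gamAlg

variable {k : Type u} [Field k] [IsAlgClosed k]

set_option backward.isDefEq.respectTransparency false in
/-- A group whose affinization has a finite kernel on rational points is affine. -/
theorem isAffine_of_finite_kernel (G : Over (Spec (CommRingCat.of k))) [GrpObj G] [LocallyOfFiniteType G.hom]
    [QuasiCompact G.hom] (hN : {z : VecGrp.pt k k ⟶ G | z ≫ AffGrp19.toAff G = (1 : VecGrp.pt k k ⟶ G) ≫ AffGrp19.toAff G}.Finite) :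
    IsAffine G.left := by
  haveI : LocallyOfFiniteType (AffGrp19.toAff G).left := AffGrp19.lft_toAff G
  haveI : JacobsonSpace G.left := LocallyOfFiniteType.jacobsonSpace G.hom
  set q := (AffGrp19.toAff G).left
  suffices hq : q.quasiFiniteLocus = ⊤ by
    haveI : LocallyQuasiFinite q := q.quasiFiniteLocus_eq_top_iff.mp hq
    exact AffGrp19.isAffine_of_locallyQuasiFinite G
  by_contra hne
  obtain ⟨x, hx, hxc⟩ : (((q.quasiFiniteLocus : Set G.left))ᶜ ∩ closedPoints G.left).Nonempty := by
    refine nonempty_inter_closedPoints ?_ (TopologicalSpace.Opens.isOpen _).isClosed_compl.isLocallyClosed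
    by_contra hemp
    rw [Set.not_nonempty_iff_eq_empty, Set.compl_empty_iff] at hemp
    exact hne (TopologicalSpace.Opens.ext hemp)
  obtain ⟨g, hg⟩ := BorelFix21.exists_pt_of_closed x hxc
  have hclosed : ∀ {X : Over (Spec (CommRingCat.of k))} [IsSeparated X.hom] (p : VecGrp.pt k k ⟶ X),
      IsClosed ({img p} : Set X.left) := by
    intro X _ p
    have e : p.left ≫ X.hom = 𝟙 _ := by
      rw [Over.w p]
      show Spec.map (CommRingCat.ofHom (algebraMap k k)) = 𝟙 _
      rw [show CommRingCat.ofHom (algebraMap k k) = 𝟙 _ from rfl, Spec.map_id]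
    haveI : IsClosedImmersion p.left := isClosedImmersion_of_comp_eq_id X.hom p.left e
    have e2 : ({img p} : Set X.left) = Set.range p.left := by
      refine Set.Subset.antisymm (Set.singleton_subset_iff.2 ⟨_, rfl⟩) ?_
      rintro _ ⟨z, rfl⟩
      rw [Subsingleton.elim (α := PrimeSpectrum k) z (IsLocalRing.closedPoint k)]
      rfl
    rw [e2]
    exact p.left.isClosedEmbedding.isClosed_range
  haveI : IsSeparated (AffGrp19.aff G).hom := inferInstance
  haveI := AbRigid.isSeparated_of_grpObj G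
  set y := q x
  have hy : y = img (g ≫ AffGrp19.toAff G) := by
    show q x = _
    rw [← hg]; rfl
  have hyc : IsClosed ({y} : Set (AffGrp19.aff G).left) := hy ▸ hclosed _
  let S : Set G.left := (fun z => img (g * z)) '' {z : VecGrp.pt k k ⟶ G | z ≫ AffGrp19.toAff G = (1 : VecGrp.pt k k ⟶ G) ≫ AffGrp19.toAff G}
  have hSfin : S.Finite := hN.image (fun z => img (g * z))
  have hSc : IsClosed S := by
    have e : S = ⋃ z ∈ {z : VecGrp.pt k k ⟶ G | z ≫ AffGrp19.toAff G = (1 : VecGrp.pt k k ⟶ G) ≫ AffGrp19.toAff G}, {img (g * z)} := by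
      simp only [S]
      rw [← Set.image_eq_iUnion]
    rw [e]
    exact hN.isClosed_biUnion fun z _ => hclosed _
  have hfib : q ⁻¹' {y} ⊆ S := by
    intro w hw
    by_contra hwS
    obtain ⟨w', ⟨hw'1, hw'2⟩, hw'c⟩ := nonempty_inter_closedPoints (X := G.left)
      (Z := q ⁻¹' {y} ∩ Sᶜ) ⟨w, hw, hwS⟩
      ((hyc.preimage q.continuous).isLocallyClosed.inter hSc.isOpen_compl.isLocallyClosed)
    obtain ⟨g', hg'⟩ := BorelFix21.exists_pt_of_closed w' hw'c
    refine hw'2 ⟨g⁻¹ * g', ?_, by simp only [mul_inv_cancel_left, hg']⟩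
    have h1 : img (g' ≫ AffGrp19.toAff G) = img (g ≫ AffGrp19.toAff G) := by
      rw [← hy]
      show q (img g') = y
      rw [hg']
      exact hw'1
    have hu : (VecGrp.pt k k).hom = 𝟙 _ := by
      show Spec.map (CommRingCat.ofHom (algebraMap k k)) = 𝟙 _
      rw [show CommRingCat.ofHom (algebraMap k k) = 𝟙 _ from rfl, Spec.map_id]
    have e : g' ≫ AffGrp19.toAff G = g ≫ AffGrp19.toAff G := by
      let i : 𝟙_ (Over (Spec (CommRingCat.of k))) ⟶ VecGrp.pt k k := Over.homMk (𝟙 _) (by
        show 𝟙 _ ≫ (VecGrp.pt k k).hom = 𝟙 _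
        rw [hu, Category.comp_id])
      haveI : Epi i.left := show Epi (𝟙 (Spec (CommRingCat.of k))) from inferInstance
      haveI : Epi i := Over.epi_of_epi_left i
      rw [← cancel_epi i]
      refine AffGrp19.pts_ext _ _ ?_
      exact h1
    show (g⁻¹ * g') ≫ AffGrp19.toAff G = (1 : VecGrp.pt k k ⟶ G) ≫ AffGrp19.toAff G
    rw [MonObj.mul_comp, GrpObj.inv_comp, e, inv_mul_cancel, MonObj.one_comp]
  refine hx ?_
  show q.QuasiFiniteAt x
  rw [Scheme.Hom.quasiFiniteAt_iff_isOpen_singleton_asFiber]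
  haveI : Finite ↥(q ⁻¹' {y}) := (hSfin.subset hfib).to_subtype
  haveI : Finite (q.fiber (q x)) := Finite.of_equiv _ (q.fiberHomeo (q x)).toEquiv.symm
  haveI : T1Space ↥(q ⁻¹' {y}) := ⟨fun w => by
    obtain ⟨z, -, hz⟩ := hfib w.2
    have : IsClosed ({(w : G.left)} : Set G.left) := hz ▸ hclosed _
    convert this.preimage continuous_subtype_val
    ext v
    simp [Subtype.ext_iff]⟩
  haveI : T1Space (q.fiber (q x)) := (q.fiberHomeo (q x)).symm.t1Space
  haveI : DiscreteTopology (q.fiber (q x)) := inferInstance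
  exact isOpen_discrete _

/-- A group without torsion points of large prime order has no subtorus. -/
theorem hasNoSubtorus_of_torsion (U : Over (Spec (CommRingCat.of k))) [GrpObj U] (n : ℕ)
    (h : ∀ ℓ : ℕ, ℓ.Prime → n < ℓ → ∀ x : VecGrp.pt k k ⟶ U, x ^ ℓ = 1 → x = 1) :
    Red.HasNoSubtorus k U := by
  intro T _ j _ _ hT
  obtain ⟨hTa, hTs, -, -⟩ := props_of_isTorus hT
  haveI := hTa
  haveI := hTs
  obtain ⟨d, ⟨C⟩⟩ := exists_chars hT
  have hd : d = 0 := by
    by_contra hd
    obtain ⟨ℓ, hℓn, hℓ⟩ := Nat.exists_infinite_primes (max (n + 1) (ringChar k + 1))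
    haveI : NeZero (ℓ : k) := ⟨fun h0 => by
      rcases CharP.char_is_prime_or_zero k (ringChar k) with hp | hp
      · have := (Nat.prime_dvd_prime_iff_eq hp hℓ).1 ((CharP.cast_eq_zero_iff k (ringChar k) ℓ).1 h0)
        omega
      · have := (CharP.cast_eq_zero_iff k (ringChar k) ℓ).1 h0
        rw [hp, zero_dvd_iff] at this
        exact hℓ.ne_zero this⟩
    haveI : NeZero ℓ := ⟨hℓ.ne_zero⟩
    obtain ⟨ζ, hζ⟩ := HasEnoughRootsOfUnity.exists_primitiveRoot k ℓ
    let u : kˣ := (hζ.isUnit hℓ.ne_zero).unit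
    let i₀ : Fin d := ⟨0, Nat.pos_of_ne_zero hd⟩
    let χ : Multiplicative (Fin d → ℤ) →* k :=
      { toFun := fun v => ((u ^ (Multiplicative.toAdd v i₀) : kˣ) : k)
        map_one' := by simp
        map_mul' := fun a b => by simp [zpow_add] }
    obtain ⟨x, hx⟩ := exists_ptChr C χ
    have hone : ∀ a, ptChr C (1 : VecGrp.pt k k ⟶ T) a = 1 := fun a => by
      have h1 := ptChr_mul C (1 : VecGrp.pt k k ⟶ T) 1 a
      rw [_root_.one_mul] at h1
      have hne : ptChr C (1 : VecGrp.pt k k ⟶ T) a ≠ 0 := ((Group.isUnit a).map (ptChr C 1)).ne_zero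
      exact mul_left_cancel₀ hne (h1.symm.trans (_root_.mul_one _).symm)
    have hxℓ : x ^ ℓ = 1 := ptChr_injective C (MonoidHom.ext fun a => by
      rw [ptChr_pow C x hℓ.pos, hone, hx]
      show ((u ^ _ : kˣ) : k) ^ ℓ = 1
      rw [← Units.val_pow_eq_pow_val, ← zpow_natCast (u ^ _), ← zpow_mul, _root_.mul_comm, zpow_mul, zpow_natCast,
        show u ^ ℓ = 1 from Units.ext (by rw [Units.val_pow_eq_pow_val, IsUnit.unit_spec]; exact hζ.pow_eq_one),
        one_zpow, Units.val_one])
    have hxj := h ℓ hℓ (by omega) (x ≫ j)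
      ((map_pow (IsMonHom.monoidHom j (VecGrp.pt k k)) x ℓ).symm.trans (by rw [hxℓ, map_one]))
    have hx1 : x = 1 := (cancel_mono j).1 (hxj.trans (MonObj.one_comp j).symm)
    have h2 := DFunLike.congr_fun hx (Multiplicative.ofAdd (Pi.single i₀ 1))
    rw [hx1, hone] at h2
    refine hζ.ne_one hℓ.one_lt ?_
    rw [h2]
    simp [χ, u]
  subst hd
  have h1 : ∀ x : VecGrp.pt k k ⟶ T, x = 1 := fun x => C.inj fun a => by
    rw [Subsingleton.elim a 1, map_one, map_one]
  haveI : IsClosedImmersion η[T].left := isClosedImmersion_of_comp_eq_id T.hom η[T].left (Over.w η[T])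
  obtain ⟨f, hf⟩ := exists_lift_of_pts η[T] (𝟙 T) fun x => ⟨toUnit _, by
    rw [Category.comp_id, h1 x, Hom.one_def]⟩
  have e1 : f.left = T.hom := by
    have := Over.w f
    exact (Category.comp_id f.left).symm.trans this
  refine ⟨η[T].left, ?_, Over.w η[T]⟩
  rw [← e1, ← Over.comp_left, hf, Over.id_left]

end Groth.Agent.SpecAff15
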