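import Mathlib.RingTheory.Valuation.LocalSubring
import Mathlib.RingTheory.Valuation.ValuationSubring
import Mathlib.RingTheory.AlgebraicIndependent.Basic
import Mathlib.FieldTheory.IsAlgClosed.Basic
import Mathlib.RingTheory.Polynomial.IsIntegral
import Mathlib.FieldTheory.Normal.Closure
import Groth.Agent.Lib.EppASH7.Conj

/-!
# Valuations dominating the local ring of a specialised subgroup

`F` is the function field of a variety over the algebraically closed fraction field `K` of a valuation ring `V`,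
`ψ : O → E` is a residue map of a local `V`-algebra `O` mapping to `F`, and there is a tuple of elements of `O`
which is a transcendence basis of `F/K` with algebraically independent residues. Then the valuation rings of `F`
dominating `O` are finite in number, have value group that of `V`, and residue field algebraic over `E`.
-/

set_option autoImplicit false
set_option linter.style.haveILetI false

universe u

open Polynomial

namespace Groth.Agent.SpecAff15

variable {V : Type u} [CommRing V] [IsDomain V] [ValuationRing V]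
  {K : Type u} [Field K] [IsAlgClosed K] [Algebra V K] [IsFractionRing V K]
  {k : Type u} [Field k] (r : V →+* k)
  {F : Type u} [Field F] [Algebra K F] {E : Type u} [Field E] [Algebra k E]
  {O : Type u} [CommRing O] [IsLocalRing O] (c : V →+* O) (φ : O →+* F) (ψ : O →+* E)

/-- The compatibilities. -/
structure Setup : Prop where
  hr : Function.Surjective r
  compF : ∀ v, φ (c v) = algebraMap K F (algebraMap V K v)
  compE : ∀ v, ψ (c v) = algebraMap k E (r v)
  surj : Function.Surjective ψ
  basis : ∃ (d : ℕ) (t : Fin d → O), AlgebraicIndependent k (fun j => ψ (t j)) ∧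
    ∀ f : F, IsAlgebraic (Algebra.adjoin K (Set.range fun j => φ (t j))) f
  fg : Algebra.EssFiniteType K F

variable {r c φ ψ}

theorem Setup.ker_psi (h : Setup (K := K) r c φ ψ) (o : O) :
    ψ o = 0 ↔ o ∈ IsLocalRing.maximalIdeal O := by
  rw [← RingHom.mem_ker, IsLocalRing.eq_maximalIdeal (RingHom.ker_isMaximal_of_surjective ψ h.surj)]

theorem Setup.isUnit_iff (h : Setup (K := K) r c φ ψ) (o : O) : IsUnit o ↔ ψ o ≠ 0 := by
  rw [Ne, h.ker_psi, IsLocalRing.mem_maximalIdeal, mem_nonunits_iff, not_not]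

variable (φ) in
/-- Valuation rings dominating the local ring. -/
def Dom : Set (ValuationSubring F) :=
  {w | ∀ o : O, φ o ∈ w ∧ (o ∈ IsLocalRing.maximalIdeal O → w.valuation (φ o) < 1)}

theorem Dom.unit {w : ValuationSubring F} (hw : w ∈ Dom φ) {o : O} (ho : IsUnit o) : w.valuation (φ o) = 1 := by
  refine (w.valuation_eq_one_iff ⟨φ o, (hw o).1⟩).1 ?_
  obtain ⟨o', ho'⟩ := ho.exists_right_inv
  exact IsUnit.of_mul_eq_one ⟨φ o', (hw o').1⟩ (Subtype.ext (by
    show φ o * φ o' = 1
    rw [← map_mul, ho', map_one]))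

variable (φ) in
theorem Dom.nonempty : (Dom φ).Nonempty := by
  haveI : IsLocalRing φ.range := IsLocalRing.of_surjective' φ.rangeRestrict φ.rangeRestrict_surjective
  obtain ⟨w, hw, hloc⟩ := (LocalSubring.mk φ.range).exists_le_valuationSubring
  refine ⟨w, fun o => ⟨hw ⟨o, rfl⟩, fun ho => (w.valuation_lt_one_iff ⟨φ o, hw ⟨o, rfl⟩⟩).1 ?_⟩⟩
  rw [IsLocalRing.mem_maximalIdeal, mem_nonunits_iff]
  intro hu
  haveI : IsLocalHom φ.rangeRestrict :=
    .of_surjective _ φ.rangeRestrict_surjective
  exact ho (isUnit_of_map_unit φ.rangeRestrict o (hloc.map_nonunit (φ.rangeRestrict o) hu))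

/-- Elements that are a constant times a unit of the local ring. -/
def Mon (φ : O →+* F) (f : F) : Prop := ∃ (a : K) (o : O), IsUnit o ∧ f = algebraMap K F a * φ o

omit [IsAlgClosed K] in
theorem exists_scale {ι : Type*} (s : Finset ι) (hs : s.Nonempty) (a : ι → K) :
    ∃ i₀ ∈ s, ∀ i ∈ s, ∃ v : V, algebraMap V K v * a i₀ = a i := by
  induction hs using Finset.Nonempty.cons_induction with
  | singleton i => exact ⟨i, by simp, fun j hj => ⟨1, by simp at hj; simp [hj]⟩⟩
  | cons i s his hs ih =>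
    obtain ⟨i₀, hi₀, h⟩ := ih
    obtain ⟨x, y, hy, hxy⟩ := IsFractionRing.div_surjective (A := V) (a i / a i₀)
    have hy' : algebraMap V K y ≠ 0 :=
      (map_ne_zero_iff _ (IsFractionRing.injective V K)).2 (nonZeroDivisors.ne_zero hy)
    rcases eq_or_ne (a i₀) 0 with h0 | h0
    · refine ⟨i, Finset.mem_cons_self _ _, fun j hj => ?_⟩
      rcases Finset.mem_cons.1 hj with rfl | hj
      · exact ⟨1, by simp⟩
      · obtain ⟨v, hv⟩ := h j hj
        exact ⟨0, by rw [← hv, h0]; simp⟩
    have hai : algebraMap V K x * a i₀ = algebraMap V K y * a i := by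
      rw [eq_div_iff h0] at hxy
      rw [← hxy]
      field_simp
    rcases ValuationRing.dvd_total y x with ⟨z, hz⟩ | ⟨z, hz⟩
    · refine ⟨i₀, Finset.mem_cons_of_mem hi₀, fun j hj => ?_⟩
      rcases Finset.mem_cons.1 hj with rfl | hj
      · refine ⟨z, mul_left_cancel₀ hy' ?_⟩
        rw [← hai, ← mul_assoc, ← map_mul, ← hz]
      · exact h j hj
    · have hx' : algebraMap V K x ≠ 0 := fun hx0 => hy' (by rw [hz, map_mul, hx0, zero_mul])
      refine ⟨i, Finset.mem_cons_self _ _, fun j hj => ?_⟩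
      rcases Finset.mem_cons.1 hj with rfl | hj
      · exact ⟨1, by simp⟩
      · obtain ⟨v, hv⟩ := h j hj
        refine ⟨v * z, mul_left_cancel₀ hx' ?_⟩
        rw [← hv, mul_left_comm _ _ (a i₀), hai, hz, map_mul, map_mul]
        ring

omit [IsAlgClosed K] in
theorem exists_scale_ne {ι : Type*} (s : Finset ι) (a : ι → K) (hne : ∃ i ∈ s, a i ≠ 0) :
    ∃ i₀ ∈ s, a i₀ ≠ 0 ∧ ∀ i ∈ s, ∃ v : V, algebraMap V K v * a i₀ = a i := by
  obtain ⟨i, hi, hai⟩ := hne
  obtain ⟨i₀, hi₀, h⟩ := exists_scale (V := V) s ⟨i, hi⟩ a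
  obtain ⟨v, hv⟩ := h i hi
  exact ⟨i₀, hi₀, fun h0 => hai (by rw [← hv, h0, mul_zero]), h⟩

/-- Gauss lemma: polynomials in the chosen basis are constants times units. -/
theorem mon_aeval (h : Setup (K := K) r c φ ψ) {d : ℕ} {t : Fin d → O}
    (ht : AlgebraicIndependent k (fun j => ψ (t j))) {P : MvPolynomial (Fin d) K} (hP : P ≠ 0) :
    Mon (K := K) φ (MvPolynomial.aeval (fun j => φ (t j)) P) := by
  classical
  obtain ⟨m₁, hm₁⟩ := (MvPolynomial.support_nonempty).2 hP
  obtain ⟨m₀, hm₀, hne, hv⟩ := exists_scale_ne (V := V) P.support (fun m => P.coeff m)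
    ⟨m₁, hm₁, MvPolynomial.mem_support_iff.1 hm₁⟩
  choose! v hv using hv
  let Q : MvPolynomial (Fin d) V :=
    ∑ m ∈ P.support, MvPolynomial.monomial m (if m = m₀ then 1 else v m)
  refine ⟨P.coeff m₀, MvPolynomial.eval₂ c t Q, (h.isUnit_iff _).2 fun h0 => ?_, ?_⟩
  · rw [MvPolynomial.eval₂_comp_left ψ] at h0
    have e : ψ.comp c = (algebraMap k E).comp r := RingHom.ext h.compE
    rw [e, ← MvPolynomial.eval₂_map] at h0
    have h2 : MvPolynomial.map r Q = 0 := ht (by rw [map_zero]; exact h0)
    have h3 := congrArg (MvPolynomial.coeff m₀) h2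
    rw [MvPolynomial.coeff_map, MvPolynomial.coeff_zero] at h3
    simp [Q, MvPolynomial.coeff_sum, MvPolynomial.coeff_monomial, MvPolynomial.mem_support_iff.1 hm₀] at h3
  · rw [MvPolynomial.eval₂_comp_left φ]
    have e : φ.comp c = (algebraMap K F).comp (algebraMap V K) := RingHom.ext h.compF
    rw [e, ← MvPolynomial.eval₂_map]
    have hQ : MvPolynomial.C (P.coeff m₀) * MvPolynomial.map (algebraMap V K) Q = P := by
      conv_rhs => rw [P.as_sum]
      rw [map_sum, Finset.mul_sum]
      refine Finset.sum_congr rfl fun m hm => ?_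
      rw [MvPolynomial.map_monomial, MvPolynomial.C_mul_monomial]
      congr 1
      split_ifs with hmm
      · rw [map_one, mul_one, hmm]
      · rw [mul_comm]; exact hv m hm
    conv_lhs => rw [← hQ]
    rw [map_mul, MvPolynomial.aeval_C]
    rfl

/-- Every element satisfies a polynomial equation whose coefficients are constants times units. -/
theorem exists_rel (h : Setup (K := K) r c φ ψ) (f : F) :
    ∃ P : Polynomial F, P ≠ 0 ∧ P.eval f = 0 ∧ ∀ i, P.coeff i ≠ 0 → Mon (K := K) φ (P.coeff i) := by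
  obtain ⟨d, t, ht, halg⟩ := h.basis
  obtain ⟨p, hp, hpf⟩ := halg f
  refine ⟨p.map (algebraMap _ F), (Polynomial.map_ne_zero_iff Subtype.val_injective).2 hp,
    by rw [Polynomial.eval_map]; exact hpf, fun i hi => ?_⟩
  rw [Polynomial.coeff_map] at hi ⊢
  obtain ⟨Q, hQ⟩ := (Algebra.adjoin_range_eq_range_aeval K (fun j => φ (t j))).le (p.coeff i).2
  have hQ' : MvPolynomial.aeval (fun j => φ (t j)) Q = (p.coeff i : F) := hQ
  show Mon (K := K) φ ((p.coeff i : F))
  rw [← hQ']
  exact mon_aeval h ht fun h0 => hi (by show (p.coeff i : F) = 0; rw [← hQ', h0, map_zero])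

theorem valuation_mon {w : ValuationSubring F} (hw : w ∈ Dom φ) {a : K} {o : O} (ho : IsUnit o) :
    w.valuation (algebraMap K F a * φ o) = w.valuation (algebraMap K F a) := by
  rw [map_mul, Dom.unit hw ho, mul_one]

/-- The valuation ring meets `K` in `V`. -/
theorem mem_iff (h : Setup (K := K) r c φ ψ) {w : ValuationSubring F} (hw : w ∈ Dom φ) (a : K) :
    algebraMap K F a ∈ w ↔ ∃ v : V, algebraMap V K v = a := by
  refine ⟨fun ha => ?_, fun ⟨v, hv⟩ => hv ▸ h.compF v ▸ (hw (c v)).1⟩
  rcases eq_or_ne a 0 with rfl | h0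
  · exact ⟨0, map_zero _⟩
  obtain ⟨i₀, -, -, hs⟩ := exists_scale_ne (V := V) ({0, 1} : Finset (Fin 2)) ![a, 1] ⟨1, by simp, by simp⟩
  rcases Fin.exists_fin_two.1 ⟨i₀, rfl⟩ with rfl | rfl
  · obtain ⟨v, hv⟩ := hs 1 (by simp)
    simp at hv
    by_cases hu : IsUnit v
    · obtain ⟨u, rfl⟩ := hu
      refine ⟨↑u⁻¹, mul_left_cancel₀ (a := algebraMap V K (u : V)) ?_ ?_⟩
      · exact fun h1 => by simp [h1] at hv
      · rw [← map_mul, Units.mul_inv, map_one, hv]
    · exfalso
      have hc : c v ∈ IsLocalRing.maximalIdeal O := by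
        rw [← h.ker_psi, h.compE]
        have : r v = 0 := by
          rw [← RingHom.mem_ker, IsLocalRing.eq_maximalIdeal (RingHom.ker_isMaximal_of_surjective r h.hr),
            IsLocalRing.mem_maximalIdeal]
          exact hu
        rw [this, map_zero]
      have h1 := (hw (c v)).2 hc
      rw [h.compF] at h1
      have h2 := (w.valuation_le_one_iff _).2 ha
      have : w.valuation (algebraMap K F (algebraMap V K v)) * w.valuation (algebraMap K F a) < 1 :=
        (mul_le_of_le_one_right' h2).trans_lt h1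
      rw [← map_mul, ← map_mul, hv, map_one, map_one] at this
      exact lt_irrefl _ this
  · obtain ⟨v, hv⟩ := hs 0 (by simp)
    exact ⟨v, by simpa using hv⟩

/-- Rescaling by constants: the value group is that of `K`. -/
theorem exists_mul_unit (h : Setup (K := K) r c φ ψ) {w : ValuationSubring F} (hw : w ∈ Dom φ) {f : F}
    (hf : f ≠ 0) : ∃ a : K, a ≠ 0 ∧ w.valuation (algebraMap K F a * f) = 1 := by
  classical
  obtain ⟨P, hP, hPf, hmon⟩ := exists_rel h f
  rw [Polynomial.eval_eq_sum_range] at hPf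
  obtain ⟨i, hi, hmax⟩ := Finset.exists_max_image (Finset.range (P.natDegree + 1))
    (fun i => w.valuation (P.coeff i * f ^ i)) ⟨0, by simp⟩
  have hvf : w.valuation f ≠ 0 := (_root_.map_ne_zero _).2 hf
  have hne : w.valuation (P.coeff i * f ^ i) ≠ 0 := by
    intro h0
    refine hP (Polynomial.ext fun j => ?_)
    rw [Polynomial.coeff_zero]
    by_cases hj : j ≤ P.natDegree
    · have h1 := hmax j (Finset.mem_range.2 (Nat.lt_succ_of_le hj))
      rw [h0, le_zero_iff, map_eq_zero, mul_eq_zero] at h1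
      exact h1.resolve_right (pow_ne_zero _ hf)
    · exact Polynomial.coeff_eq_zero_of_natDegree_lt (not_le.1 hj)
  obtain ⟨j, hj, hji, heq⟩ : ∃ j ∈ Finset.range (P.natDegree + 1), j ≠ i ∧
      w.valuation (P.coeff j * f ^ j) = w.valuation (P.coeff i * f ^ i) := by
    by_contra hno
    push_neg at hno
    have := w.valuation.map_sum_eq_of_lt (f := fun i => P.coeff i * f ^ i) hi (fun j hj => by
      simp only [Finset.mem_sdiff, Finset.mem_singleton] at hj
      exact lt_of_le_of_ne (hmax j hj.1) (hno j hj.1 hj.2))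
    rw [hPf, map_zero] at this
    exact hne this.symm
  have key : ∀ i j : ℕ, i < j → w.valuation (P.coeff i * f ^ i) ≠ 0 →
      w.valuation (P.coeff i * f ^ i) = w.valuation (P.coeff j * f ^ j) →
      ∃ a : K, a ≠ 0 ∧ w.valuation (algebraMap K F a * f) = 1 := by
    intro i j hij hne heq
    have hci : P.coeff i ≠ 0 := fun h0 => hne (by simp [h0])
    have hcj : P.coeff j ≠ 0 := fun h0 => hne (by rw [heq]; simp [h0])
    obtain ⟨a, o, ho, hao⟩ := hmon i hci
    obtain ⟨b, o', ho', hbo⟩ := hmon j hcj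
    have ha : a ≠ 0 := fun h0 => hci (by simp [hao, h0])
    have hb : b ≠ 0 := fun h0 => hcj (by simp [hbo, h0])
    rw [hao, hbo, map_mul w.valuation _ (f ^ i), map_mul w.valuation _ (f ^ j), valuation_mon hw ho,
      valuation_mon hw ho', map_pow, map_pow,
      show w.valuation f ^ j = w.valuation f ^ i * w.valuation f ^ (j - i) by
        rw [← pow_add]; congr 1; omega,
      mul_left_comm, mul_comm (w.valuation (algebraMap K F a))] at heq
    have h1 := mul_left_cancel₀ (pow_ne_zero i hvf) heq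
    obtain ⟨e, he⟩ := IsAlgClosed.exists_pow_nat_eq (b / a) (Nat.sub_pos_of_lt hij)
    refine ⟨e, fun h0 => div_ne_zero hb ha (by rw [← he, h0, zero_pow (by omega)]), ?_⟩
    refine (pow_eq_one_iff_of_nonneg zero_le (show j - i ≠ 0 by omega)).1 ?_
    rw [map_mul, mul_pow, ← map_pow w.valuation, ← map_pow (algebraMap K F), he, map_div₀, map_div₀,
      div_mul_eq_mul_div, ← h1, div_self ((_root_.map_ne_zero _).2 ((_root_.map_ne_zero _).2 ha))]
  rcases lt_or_gt_of_ne hji with h' | h'
  · exact key j i h' (heq ▸ hne) heq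
  · exact key i j h' hne heq.symm

/-- Any two dominating valuation rings agree on rational functions in the basis. -/
theorem agree (h : Setup (K := K) r c φ ψ) {d : ℕ} {t : Fin d → O}
    (ht : AlgebraicIndependent k (fun j => ψ (t j))) {w w' : ValuationSubring F} (hw : w ∈ Dom φ)
    (hw' : w' ∈ Dom φ) {x : F} (hx : x ∈ IntermediateField.adjoin K (Set.range fun j => φ (t j))) :
    x ∈ w ↔ x ∈ w' := by
  rcases eq_or_ne x 0 with rfl | hx0
  · exact iff_of_true w.zero_mem w'.zero_mem
  obtain ⟨P, Q, rfl⟩ := (IntermediateField.mem_adjoin_range_iff K _ _).1 hx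
  have hP : P ≠ 0 := fun h0 => hx0 (by simp [h0])
  have hQ : Q ≠ 0 := fun h0 => hx0 (by simp [h0])
  obtain ⟨a, o, ho, hao⟩ := mon_aeval h ht hP
  obtain ⟨b, o', ho', hbo⟩ := mon_aeval h ht hQ
  have key : ∀ w ∈ Dom φ, ((algebraMap K F a * φ o) / (algebraMap K F b * φ o') ∈ w ↔
      ∃ v : V, algebraMap V K v = a / b) := by
    intro w hw
    rw [← mem_iff h hw, ← w.valuation_le_one_iff, ← w.valuation_le_one_iff, map_div₀ w.valuation,
      valuation_mon hw ho, valuation_mon hw ho', ← map_div₀, ← map_div₀]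
  rw [hao, hbo, key w hw, key w' hw']

/-- There are only finitely many dominating valuation rings. -/
theorem Dom.finite (h : Setup (K := K) r c φ ψ) : (Dom φ).Finite := by
  classical
  obtain ⟨d, t, ht, halg⟩ := h.basis
  haveI := h.fg
  let L := IntermediateField.adjoin K (Set.range fun j => φ (t j))
  haveI : Algebra.IsAlgebraic L F := ⟨fun f => by
    obtain ⟨p, hp, hpf⟩ := halg f
    have hle : Algebra.adjoin K (Set.range fun j => φ (t j)) ≤ L.toSubalgebra :=
      IntermediateField.algebra_adjoin_le_adjoin _ _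
    refine ⟨p.map (Subalgebra.inclusion hle).toRingHom, (Polynomial.map_ne_zero_iff
      (Subalgebra.inclusion_injective hle)).2 hp, ?_⟩
    rw [Polynomial.aeval_def, Polynomial.eval₂_map]
    exact hpf⟩
  haveI : Algebra.EssFiniteType L F := Algebra.EssFiniteType.of_comp K L F
  haveI : FiniteDimensional L F := Algebra.finite_of_essFiniteType_of_isAlgebraic
  haveI : Algebra.IsAlgebraic L (AlgebraicClosure F) := Algebra.IsAlgebraic.trans L F (AlgebraicClosure F)
  haveI : IsAlgClosure L (AlgebraicClosure F) := ⟨inferInstance, inferInstance⟩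
  haveI : Normal L (AlgebraicClosure F) := IsAlgClosure.normal L (AlgebraicClosure F)
  let M := IntermediateField.normalClosure L F (AlgebraicClosure F)
  haveI : FiniteDimensional L M := normalClosure.is_finiteDimensional L F (AlgebraicClosure F)
  haveI : Normal L M := normalClosure.normal L F (AlgebraicClosure F)
  obtain ⟨j⟩ : Nonempty (F →ₐ[L] M) := by
    refine ⟨((IsScalarTower.toAlgHom L F (AlgebraicClosure F)).codRestrict M.toSubalgebra fun x => ?_)⟩
    exact AlgHom.fieldRange_le_normalClosure (IsScalarTower.toAlgHom L F (AlgebraicClosure F)) ⟨x, rfl⟩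
  have ext : ∀ w : ValuationSubring F, ∃ W : ValuationSubring M, W.comap j.toRingHom = w := by
    intro w
    haveI : IsLocalRing w.toSubring := inferInstanceAs (IsLocalRing w)
    haveI : IsLocalRing (w.toSubring.map j.toRingHom) :=
      IsLocalRing.of_surjective' ((j.toRingHom.domRestrict w.toSubring).codRestrict _
        fun x => ⟨x, x.2, rfl⟩) (by rintro ⟨_, x, hx, rfl⟩; exact ⟨⟨x, hx⟩, rfl⟩)
    obtain ⟨W, hW, hloc⟩ := (LocalSubring.mk (w.toSubring.map j.toRingHom)).exists_le_valuationSubring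
    refine ⟨W, le_antisymm (fun x hx => ?_) (fun x hx => hW ⟨x, hx, rfl⟩)⟩
    by_contra hxw
    have hinv : x⁻¹ ∈ w := (w.mem_or_inv_mem x).resolve_left hxw
    have hx0 : x ≠ 0 := fun h0 => hxw (h0 ▸ w.zero_mem)
    obtain ⟨b, hb⟩ := hloc.map_nonunit (⟨j x⁻¹, ⟨_, hinv, rfl⟩⟩ : w.toSubring.map j.toRingHom) (by
      refine IsUnit.of_mul_eq_one ⟨j x, hx⟩ (Subtype.ext ?_)
      show j x⁻¹ * j x = 1
      rw [← map_mul, inv_mul_cancel₀ hx0, map_one])
    obtain ⟨y, hy, hyb⟩ := (b⁻¹ : (w.toSubring.map j.toRingHom)ˣ).1.2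
    have e : j x⁻¹ * j y = 1 := by
      have := congrArg Subtype.val b.mul_inv
      rw [Subring.coe_mul, hb, ← hyb] at this
      exact this
    rw [← map_mul] at e
    have e2 : x⁻¹ * y = 1 := j.toRingHom.injective (e.trans (map_one _).symm)
    rw [inv_mul_eq_one₀ hx0] at e2
    exact hxw (e2 ▸ hy)
  choose W hW using ext
  obtain ⟨w₀, hw₀⟩ := Dom.nonempty φ
  refine Set.Finite.subset (Set.finite_range fun σ : M ≃ₐ[L] M => ((W w₀).comap σ.toRingHom).comap j.toRingHom)
    fun w hw => ?_
  obtain ⟨σ, hσ⟩ := EppASH7.exists_algEquiv_comap_eq (F := L) (W := W w₀) (W w) (by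
    refine ValuationSubring.ext _ _ fun x => ?_
    show algebraMap L M x ∈ W w ↔ algebraMap L M x ∈ W w₀
    have e : ∀ w, algebraMap L M x ∈ W w ↔ (x : F) ∈ w := fun w => by
      conv_rhs => rw [← hW w]
      show _ ↔ j (algebraMap L F x) ∈ W w
      rw [j.commutes]
    rw [e, e, agree h ht hw hw₀ x.2])
  exact ⟨σ, by show ((W w₀).comap σ.toRingHom).comap j.toRingHom = w; rw [hσ, hW]⟩

end Groth.Agent.SpecAff15
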