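import Groth.Agent.Lib.SpecAff15.Stalk
import Groth.Agent.Lib.VarDim.Scheme
import Groth.Agent.Lib.VarDim.Alg
import Mathlib.AlgebraicGeometry.FunctionField
import Mathlib.RingTheory.AlgebraicIndependent.TranscendenceBasis
import Mathlib.RingTheory.EssentialFiniteness
import Mathlib.CategoryTheory.Monoidal.Cartesian.Over

/-!
# Function fields of varieties over a field, and automorphisms
-/

set_option autoImplicit false
set_option linter.style.haveILetI false
set_option backward.isDefEq.respectTransparency false
set_option backward.isDefEq.respectTransparency.types false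

universe u

open CategoryTheory AlgebraicGeometry

noncomputable section

namespace Groth.Agent.SpecAff15

variable {k : Type u} [Field k] (X : Over (Spec (CommRingCat.of k)))

/-- The function field as an algebra over the base field. -/
@[reducible] def funAlg [IrreducibleSpace X.left] : Algebra k X.left.functionField :=
  (baseHom X.hom (genericPoint X.left)).hom.toAlgebra

/-- The sections over an open as an algebra over the base field. -/
@[reducible] def secAlg (U : X.left.Opens) : Algebra k Γ(X.left, U) := (VarDim.baseToSections X.hom U).toAlgebra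

attribute [local instance] funAlg secAlg

variable [IsIntegral X.left]

theorem germ_algebraMap (U : X.left.Opens) [Nonempty U] (c : k) :
    X.left.germToFunctionField U (algebraMap k Γ(X.left, U) c) = algebraMap k X.left.functionField c := by
  show X.left.presheaf.germ U _ _ (VarDim.baseToSections X.hom U c) = (baseHom X.hom (genericPoint X.left)).hom c
  rw [baseHom_eq]
  show X.left.presheaf.germ U _ _ (X.left.presheaf.map (homOfLE le_top).op
    (X.hom.appTop ((Scheme.ΓSpecIso (CommRingCat.of k)).inv c))) = _
  rw [TopCat.Presheaf.germ_res_apply]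
  rfl

theorem isScalarTower_sec (U : X.left.Opens) [Nonempty U] : IsScalarTower k Γ(X.left, U) X.left.functionField :=
  IsScalarTower.of_algebraMap_eq fun c => (germ_algebraMap X U c).symm

variable [LocallyOfFiniteType X.hom]

theorem finiteType_sec {U : X.left.Opens} (hU : IsAffineOpen U) : Algebra.FiniteType k Γ(X.left, U) :=
  VarDim.finiteType_baseToSections X.hom hU

theorem nonempty_affine : ∃ U : X.left.Opens, IsAffineOpen U ∧ Nonempty U := by
  obtain ⟨U, hU, hx, -⟩ := exists_isAffineOpen_mem_and_subset (U := (⊤ : X.left.Opens)) (x := genericPoint X.left) trivial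
  exact ⟨U, hU, ⟨⟨_, hx⟩⟩⟩

/-- The dimension is the transcendence degree of any affine coordinate ring. -/
theorem dim_eq_tdeg {U : X.left.Opens} (hU : IsAffineOpen U) [hne : Nonempty U] :
    topologicalKrullDim X.left = (VarDim.tdeg k Γ(X.left, U) : WithBot ℕ∞) := by
  haveI := finiteType_sec X hU
  haveI : IsDomain Γ(X.left, U) := inferInstance
  have hx : genericPoint X.left ∈ U :=
    ((genericPoint_spec X.left).mem_open_set_iff U.2).2 (by obtain ⟨x⟩ := hne; exact ⟨x.1, trivial, x.2⟩)
  rw [VarDim.dim_eq_sdim_genericPoint X.hom]
  have h1 := VarDim.sdim_eq_coheight X.hom hU (genericPoint X.left) hx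
  rw [IsAffineOpen.primeIdealOf_genericPoint hU] at h1
  rw [← VarDim.ringKrullDim_eq_tdeg k Γ(X.left, U), ringKrullDim,
    ← WithBot.coe_natCast, ← h1]
  refine Eq.trans ?_ (Order.coheight_bot_eq_krullDim (α := PrimeSpectrum Γ(X.left, U)))
  congr 2
  exact genericPoint_eq_bot_of_affine Γ(X.left, U)

/-- The function field is essentially of finite type, of transcendence degree the dimension. -/
theorem funField_props : Algebra.EssFiniteType k X.left.functionField ∧
    ∃ n : ℕ, Algebra.trdeg k X.left.functionField = n ∧ topologicalKrullDim X.left = (n : WithBot ℕ∞) := by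
  obtain ⟨U, hU, hne⟩ := nonempty_affine X
  haveI := hne
  haveI := finiteType_sec X hU
  haveI := isScalarTower_sec X U
  haveI : IsFractionRing Γ(X.left, U) X.left.functionField := functionField_isFractionRing_of_isAffineOpen X.left U hU
  refine ⟨?_, VarDim.tdeg k Γ(X.left, U), ?_, dim_eq_tdeg X hU⟩
  · haveI : Algebra.EssFiniteType Γ(X.left, U) X.left.functionField :=
      Algebra.EssFiniteType.of_isLocalization _ (nonZeroDivisors Γ(X.left, U))
    exact Algebra.EssFiniteType.comp k Γ(X.left, U) X.left.functionField
  · haveI : Algebra.IsAlgebraic Γ(X.left, U) X.left.functionField :=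
      IsLocalization.isAlgebraic _ (nonZeroDivisors _)
    haveI : FaithfulSMul Γ(X.left, U) X.left.functionField :=
      (faithfulSMul_iff_algebraMap_injective _ _).2 (IsFractionRing.injective _ _)
    rw [← trdeg_add_eq k Γ(X.left, U) (A := X.left.functionField), trdeg_eq_zero (R := Γ(X.left, U)) (A := X.left.functionField),
      add_zero, VarDim.trdeg_eq_tdeg k]

section aut

variable {X}
omit [LocallyOfFiniteType X.hom]

theorem apply_genericPoint_of_surjective (f : X ⟶ X) [Surjective f.left] :
    f.left (genericPoint X.left) = genericPoint X.left := by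
  have h := (genericPoint_spec X.left).image f.left.continuous
  rw [Set.image_univ, f.left.surjective.range_eq, closure_univ] at h
  exact h.eq (genericPoint_spec X.left)

/-- The map of function fields of a surjective endomorphism. -/
def funHom (f : X ⟶ X) [Surjective f.left] : X.left.functionField ⟶ X.left.functionField :=
  stalkHom f.left (genericPoint X.left) (by rw [apply_genericPoint_of_surjective f])

theorem funHom_spec (f : X ⟶ X) [Surjective f.left] :
    Spec.map (funHom f) ≫ X.left.fromSpecStalk (genericPoint X.left) =
      X.left.fromSpecStalk (genericPoint X.left) ≫ f.left :=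
  stalkHom_spec _ _ _

theorem funHom_eq_of (f g : X ⟶ X) [Surjective f.left] [Surjective g.left] (h : f = g) : funHom f = funHom g := by
  subst h; rfl

theorem funHom_comp (f g : X ⟶ X) [Surjective f.left] [Surjective g.left] [Surjective (f ≫ g).left] :
    funHom (f ≫ g) = funHom g ≫ funHom f := by
  refine stalkHom_ext ?_
  rw [funHom_spec, Spec.map_comp, Category.assoc, funHom_spec, reassoc_of% funHom_spec f]
  rfl

theorem funHom_id [Surjective (𝟙 X : X ⟶ X).left] : funHom (𝟙 X) = 𝟙 _ := by
  refine stalkHom_ext ?_
  rw [funHom_spec, Spec.map_id]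
  simp

theorem funHom_algebraMap (f : X ⟶ X) [Surjective f.left] (c : k) :
    funHom f (algebraMap k X.left.functionField c) = algebraMap k X.left.functionField c := by
  have h := baseHom_comp f.left X.hom X.hom (𝟙 (CommRingCat.of k))
    (by rw [Spec.map_id, Category.comp_id]; exact Over.w f) (genericPoint X.left)
    (x := genericPoint X.left) (by rw [apply_genericPoint_of_surjective f])
  rw [Category.id_comp] at h
  exact ConcreteCategory.congr_hom h c

theorem funHom_germ (f : X ⟶ X) [Surjective f.left] [Nonempty (⊤ : X.left.Opens)] (a : Γ(X.left, ⊤)) :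
    funHom f (X.left.germToFunctionField ⊤ a) = X.left.germToFunctionField ⊤ (f.left.appTop a) :=
  ConcreteCategory.congr_hom (germ_stalkHom f.left (genericPoint X.left)
    (x := genericPoint X.left) (by rw [apply_genericPoint_of_surjective f]) ⊤ trivial) a

/-- The automorphism of the function field of an automorphism. -/
def funEquiv (f g : X ⟶ X) [Surjective f.left] [Surjective g.left] (hfg : f ≫ g = 𝟙 X) (hgf : g ≫ f = 𝟙 X) :
    X.left.functionField ≃ₐ[k] X.left.functionField where
  toFun := funHom f
  invFun := funHom g
  left_inv x := by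
    haveI : Surjective (g ≫ f).left := by rw [hgf]; exact ⟨fun y => ⟨y, rfl⟩⟩
    haveI : Surjective (𝟙 X : X ⟶ X).left := ⟨fun y => ⟨y, rfl⟩⟩
    rw [← CommRingCat.comp_apply, ← funHom_comp, funHom_eq_of _ _ hgf, funHom_id]
    rfl
  right_inv x := by
    haveI : Surjective (f ≫ g).left := by rw [hfg]; exact ⟨fun y => ⟨y, rfl⟩⟩
    haveI : Surjective (𝟙 X : X ⟶ X).left := ⟨fun y => ⟨y, rfl⟩⟩
    rw [← CommRingCat.comp_apply, ← funHom_comp, funHom_eq_of _ _ hfg, funHom_id]
    rfl
  map_mul' := map_mul (funHom f).hom
  map_add' := map_add (funHom f).hom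
  commutes' := funHom_algebraMap f

end aut

end Groth.Agent.SpecAff15
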