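import Groth.Agent.Lib.SpecAff15.Special
import Groth.Agent.Lib.SubSpec19.Derived
import Groth.Agent.Lib.IsogTransfer19.Subgroups
import Groth.Agent.Lib.AffPart25.Largest
import Groth.Agent.Lib.NPowAff3

/-!
# An affine generic fibre forces an affine special fibre
-/

set_option autoImplicit false
set_option linter.style.haveILetI false
set_option backward.isDefEq.respectTransparency false
set_option backward.isDefEq.respectTransparency.types false
set_option synthInstance.maxHeartbeats 400000
universe u

open CategoryTheory CategoryTheory.Limits MonoidalCategory CartesianMonoidalCategory MonObj AlgebraicGeometry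
open Groth.Agent.WeilRes21 Groth.Agent.Chevalley25
open scoped CategoryTheory.Obj

noncomputable section

namespace Groth.Agent.SpecAff15

variable {k : Type u} [Field k] [IsAlgClosed k]

/-- A group of finite type whose reduced neutral component is affine is affine. -/
theorem isAffine_of_component (G : Over (Spec (CommRingCat.of k))) [GrpObj G] [LocallyOfFiniteType G.hom]
    [QuasiCompact G.hom] {H H₀ : Over (Spec (CommRingCat.of k))} [GrpObj H] [GrpObj H₀] (r : H ⟶ G) [IsMonHom r]
    [IsClosedImmersion r.left] [Surjective r.left] [IsReduced H.left] [Smooth H.hom]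
    (j : H₀ ⟶ H) [IsMonHom j] [IsOpenImmersion j.left] [IsClosedImmersion j.left] [ConnectedSpace H₀.left]
    [IsAffine H₀.left] : IsAffine G.left := by
  haveI : QuasiCompact H.hom := by rw [← Over.w r]; infer_instance
  haveI himm : ∀ h : specOver k k ⟶ H, IsOpenImmersion (j ≫ tau h).left := fun h => by
    rw [Over.comp_left]; infer_instance
  classical
  let T : (specOver k k ⟶ H) → H.left.Opens := fun h => (j ≫ tau h).left.opensRange
  have hcl : ∀ h, IsClosed ((T h : H.left.Opens) : Set H.left) := fun h => by
    haveI : IsClosedImmersion (j ≫ tau h).left := by rw [Over.comp_left]; infer_instance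
    simpa [T] using (j ≫ tau h).left.isClosedEmbedding.isClosed_range
  have heq : ∀ h, ∀ x ∈ T h, ((T h : H.left.Opens) : Set H.left) = connectedComponent x := fun h x hx => by
    have hc : _root_.IsPreconnected ((T h : H.left.Opens) : Set H.left) := by
      simpa [T] using isPreconnected_range (j ≫ tau h).left.continuous
    refine Set.Subset.antisymm (hc.subset_connectedComponent hx) ?_
    exact IsClopen.connectedComponent_subset ⟨hcl h, (T h).isOpen⟩ hx
  haveI : CompactSpace H.left := QuasiCompact.compactSpace_of_compactSpace H.hom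
  obtain ⟨s, hs⟩ := isCompact_univ.elim_finite_subcover (fun h => ((T h : H.left.Opens) : Set H.left))
    (fun h => (T h).isOpen) fun x _ => by
      obtain ⟨h, y, hy⟩ := Chevalley25.exists_translate H j x
      exact Set.mem_iUnion.2 ⟨h, ⟨y, hy⟩⟩
  have htop : IsAffineOpen (⨆ U : ↥(s.image T), (U : H.left.Opens)) := by
    refine IsAffineOpen.iSup_of_disjoint (fun U => ?_) fun U V hUV => ?_
    · obtain ⟨h, -, hh⟩ := Finset.mem_image.1 U.2
      rw [← hh]
      exact isAffineOpen_opensRange _
    · rw [Function.onFun, ← TopologicalSpace.Opens.coe_disjoint, Set.disjoint_left]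
      intro x hxU hxV
      obtain ⟨h, -, hh⟩ := Finset.mem_image.1 U.2
      obtain ⟨h', -, hh'⟩ := Finset.mem_image.1 V.2
      refine hUV (Subtype.ext ?_)
      rw [← hh] at hxU ⊢
      rw [← hh'] at hxV ⊢
      exact SetLike.coe_injective ((heq h x hxU).trans (heq h' x hxV).symm)
  have hsup : (⨆ U : ↥(s.image T), (U : H.left.Opens)) = ⊤ := top_le_iff.1 fun x _ => by
    obtain ⟨h, hh, hx⟩ := Set.mem_iUnion₂.1 (hs (Set.mem_univ x))
    exact TopologicalSpace.Opens.mem_iSup.2 ⟨⟨T h, Finset.mem_image_of_mem _ hh⟩, hx⟩
  haveI : IsAffine H.left := by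
    rw [hsup] at htop
    haveI : IsAffine ((⊤ : H.left.Opens) : Scheme) := htop
    exact .of_isIso H.left.topIso.inv
  haveI : IsLocallyNoetherian G.left := LocallyOfFiniteType.isLocallyNoetherian G.hom
  refine FormalH7.isAffine_of_locally_nilpotent r.left fun V => ?_
  haveI : IsNoetherianRing Γ(G.left, V.1) := IsLocallyNoetherian.component_noetherian V
  refine (Ideal.FG.isNilpotent_iff_le_nilradical (IsNoetherian.noetherian _)).2 ?_
  have hle : r.left.ker.support = ⊤ := by
    rw [← top_le_iff]
    intro x _
    obtain ⟨y, rfl⟩ := r.left.surjective x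
    exact r.left.range_subset_ker_support ⟨y, rfl⟩
  have hle' : r.left.ker ≤ G.left.nilradical := by
    rw [← Scheme.IdealSheafData.vanishingIdeal_top, ← hle, Scheme.IdealSheafData.vanishingIdeal_support]
    exact Scheme.IdealSheafData.le_radical _
  refine (hle' V).trans_eq ?_
  rfl

/-- A flat group over a valuation ring of an algebraically closed field with affine generic fibre has affine
special fibre. -/
theorem isAffine_special_fibre {S : Scheme.{u}} (G : Over S) [GrpObj G] [Flat G.hom] [LocallyOfFinitePresentation G.hom]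
    [QuasiCompact G.hom] {K : Type u} [Field K] [IsAlgClosed K] (V : ValuationSubring K)
    (r : V →+* k) (hr : Function.Surjective r) (a : Spec (CommRingCat.of V) ⟶ S)
    [IsAffine (Red.bc (Spec.map (CommRingCat.ofHom (algebraMap V K)) ≫ a) G).left] :
    IsAffine (Red.bc (Spec.map (CommRingCat.ofHom r) ≫ a) G).left := by
  let b := Spec.map (CommRingCat.ofHom (algebraMap V K)) ≫ a
  let b' := Spec.map (CommRingCat.ofHom r) ≫ a
  let GK := Red.bc b G
  let Gk := Red.bc b' G
  haveI : LocallyOfFiniteType GK.hom := inferInstanceAs (LocallyOfFiniteType (pullback.snd G.hom b))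
  haveI : QuasiCompact GK.hom := inferInstanceAs (QuasiCompact (pullback.snd G.hom b))
  haveI : LocallyOfFiniteType Gk.hom := inferInstanceAs (LocallyOfFiniteType (pullback.snd G.hom b'))
  haveI : QuasiCompact Gk.hom := inferInstanceAs (QuasiCompact (pullback.snd G.hom b'))
  -- neutral component of the generic fibre
  obtain ⟨R, _, rK, _, _, _, _, _⟩ := BorelFix21.exists_reduced_subgroup GK
  haveI : QuasiCompact R.hom := by rw [← Over.w rK]; infer_instance
  obtain ⟨H, _, jK, _, _, _, _, _, _⟩ := Chevalley25.exists_neutral R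
  haveI : IsClosedImmersion (jK ≫ rK).left := inferInstanceAs (IsClosedImmersion (jK.left ≫ rK.left))
  haveI : IsAffine GK.left := ‹IsAffine (Red.bc (Spec.map (CommRingCat.ofHom (algebraMap V K)) ≫ a) G).left›
  haveI : IsAffine H.left := isAffine_of_isAffineHom (jK ≫ rK).left
  obtain ⟨H', _, i', hi', hc', hs', hcn', hd, hP⟩ := exists_special_over15 G V r hr a rfl rfl (jK ≫ rK)
  haveI := hi'
  haveI := hc'
  haveI := hs'
  haveI := hcn'
  haveI : IsAffine H'.left := hP.2.1 inferInstance
  -- neutral component of the special fibre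
  obtain ⟨R', _, rk, _, _, _, _, _⟩ := BorelFix21.exists_reduced_subgroup Gk
  haveI : QuasiCompact R'.hom := by rw [← Over.w rk]; infer_instance
  obtain ⟨H₁, _, jk, _, _, _, _, _, _⟩ := Chevalley25.exists_neutral R'
  haveI : IsReduced H'.left := OrbitTop19.isReduced_of_smooth H'.hom
  haveI : Mono rk := Over.mono_of_mono_left rk
  haveI : Mono jk := Over.mono_of_mono_left jk
  obtain ⟨l, hl⟩ := RedSepLib.exists_lift_of_range_subset i'.left rk.left
    (by rw [Set.range_eq_univ.2 rk.left.surjective]; exact Set.subset_univ _)
  let l' : H' ⟶ R' := Over.homMk l (by rw [← Over.w rk, reassoc_of% hl, Over.w i'])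
  have hl' : l' ≫ rk = i' := Over.OverMorphism.ext hl
  have h1 : η[H'] ≫ l' = η[R'] := by
    rw [← cancel_mono rk, Category.assoc, hl', IsMonHom.one_hom, IsMonHom.one_hom]
  obtain ⟨m, hm⟩ := RedSepLib.exists_lift_of_range_subset l jk.left (by
    let e₀ := η[R'].left (IsLocalRing.closedPoint k)
    have he : e₀ ∈ Set.range jk.left := AbRigid.one_mem_range jk
    refine Set.Subset.trans ?_ (IsClopen.connectedComponent_subset ⟨jk.left.isClosedEmbedding.isClosed_range,
      jk.left.isOpenEmbedding.isOpen_range⟩ he)
    refine (isPreconnected_range l.continuous).subset_connectedComponent ⟨η[H'].left (IsLocalRing.closedPoint k), ?_⟩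
    show (η[H'].left ≫ l'.left) _ = _
    rw [← Over.comp_left, h1])
  let m' : H' ⟶ H₁ := Over.homMk m (by rw [← Over.w jk, reassoc_of% hm]; exact Over.w l')
  haveI : IsClosedImmersion (m'.left ≫ jk.left ≫ rk.left) := by
    rw [show m'.left ≫ jk.left ≫ rk.left = i'.left by
      show m ≫ _ = _
      rw [reassoc_of% hm, hl]]
    exact hc'
  haveI : IsClosedImmersion m'.left := IsClosedImmersion.of_comp m'.left (jk.left ≫ rk.left)
  have hdim : topologicalKrullDim H₁.left ≤ topologicalKrullDim H'.left := by
    refine le_trans ?_ hd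
    refine le_trans (jk.left ≫ rk.left).isClosedEmbedding.topologicalKrullDim_le ?_
    rw [SubSpec19.dim_fibres G V r hr a]
    have e : topologicalKrullDim R.left = topologicalKrullDim GK.left :=
      IsHomeomorph.topologicalKrullDim_eq _
        ((rK.left.isEmbedding.toHomeomorph.trans ((Homeomorph.setCongr (Set.range_eq_univ.2 rK.left.surjective)).trans
          (Homeomorph.Set.univ _)))).isHomeomorph
    exact e.symm.le.trans (IsogTransfer19.dim_open_subgroup jK)
  haveI := AffPart25.isIso_of_dim_le m' hdim
  haveI : IsIso m'.left := inferInstanceAs (IsIso ((Over.forget _).map m'))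
  haveI : IsAffine H₁.left := .of_isIso (inv m'.left)
  exact isAffine_of_component Gk rk jk

/-- A flat group with affine generic fibre over a domain has affine fibre at any centre of a valuation. -/
theorem isAffine_fibre_of_generic {A : Type u} [CommRing A] [IsDomain A] [IsLocalRing A] {K : Type u} [Field K]
    [Algebra A K] [IsFractionRing A K] (G : Over (Spec (CommRingCat.of A))) [GrpObj G] [Flat G.hom]
    [LocallyOfFinitePresentation G.hom] [QuasiCompact G.hom]
    [IsAffine (Red.bc (Spec.map (CommRingCat.ofHom (algebraMap A K))) G).left] :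
    IsAffine (Red.bc (Spec.map (CommRingCat.ofHom (algebraMap A (IsLocalRing.ResidueField A)))) G).left := by
  let L := AlgebraicClosure K
  let f : A →+* L := (algebraMap K L).comp (algebraMap A K)
  obtain ⟨V, hV, hloc⟩ := IsLocalRing.exists_factor_valuationRing f
  let φ : A →+* V := f.codRestrict V.toSubring hV
  haveI : IsLocalHom φ := hloc
  haveI : IsAlgClosed (IsLocalRing.ResidueField V) := SubSpec19.isAlgClosed_residueField V
  let θ : IsLocalRing.ResidueField A →+* IsLocalRing.ResidueField V := IsLocalRing.ResidueField.map φ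
  let c := Spec.map (CommRingCat.ofHom (algebraMap A K))
  let d := Spec.map (CommRingCat.ofHom (algebraMap K L))
  let a := Spec.map (CommRingCat.ofHom φ)
  have hb : d ≫ c = Spec.map (CommRingCat.ofHom (algebraMap V L)) ≫ a := by
    rw [← Spec.map_comp, ← Spec.map_comp]; rfl
  haveI : IsAffine (Red.bc (Spec.map (CommRingCat.ofHom (algebraMap V L)) ≫ a) G).left := by
    rw [← hb]
    haveI : IsAffine ((Over.pullback d).obj (Red.bc c G)).left := BorelFix21.isAffine_bc d (Red.bc c G)
    let e := SpreadSub19.bcComp c d rfl G
    haveI : IsIso e.inv.left := inferInstanceAs (IsIso ((Over.forget _).map e.inv))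
    exact .of_isIso e.inv.left
  let q := Spec.map (CommRingCat.ofHom (algebraMap A (IsLocalRing.ResidueField A)))
  let ψ := Spec.map (CommRingCat.ofHom θ)
  have hb' : ψ ≫ q = Spec.map (CommRingCat.ofHom (IsLocalRing.residue V)) ≫ a := by
    rw [← Spec.map_comp, ← Spec.map_comp]; rfl
  haveI h1 : IsAffine (Red.bc (Spec.map (CommRingCat.ofHom (IsLocalRing.residue V)) ≫ a) G).left :=
    isAffine_special_fibre G V (IsLocalRing.residue V) IsLocalRing.residue_surjective a
  haveI h2 : IsAffine (Red.bc (ψ ≫ q) G).left := hb' ▸ h1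
  let G₀ := Red.bc q G
  haveI : IsAffine (pullback G₀.hom ψ) := by
    let e := SpreadSub19.bcComp q ψ rfl G
    haveI : IsIso e.hom.left := inferInstanceAs (IsIso ((Over.forget _).map e.hom))
    exact IsAffine.of_isIso (X := (Red.bc ψ (Red.bc q G)).left) e.hom.left
  haveI : LocallyOfFiniteType G₀.hom := inferInstanceAs (LocallyOfFiniteType (pullback.snd G.hom q))
  haveI : QuasiCompact G₀.hom := inferInstanceAs (QuasiCompact (pullback.snd G.hom q))
  haveI : IsSeparated G₀.hom := AbRigid.isSeparated_of_grpObj G₀
  haveI : Flat ψ := by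
    letI := θ.toAlgebra
    show Flat (Spec.map (CommRingCat.ofHom (algebraMap (IsLocalRing.ResidueField A) (IsLocalRing.ResidueField V))))
    rw [HasRingHomProperty.Spec_iff (P := @Flat)]
    show RingHom.Flat (algebraMap (IsLocalRing.ResidueField A) (IsLocalRing.ResidueField V))
    haveI : Module.Free (IsLocalRing.ResidueField A) (IsLocalRing.ResidueField V) :=
      Module.Free.of_divisionRing (K := IsLocalRing.ResidueField A) (V := IsLocalRing.ResidueField V)
    exact RingHom.flat_algebraMap_iff.2 Module.Flat.of_free
  haveI : Surjective ψ := ⟨fun x => ⟨IsLocalRing.closedPoint _,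
    Subsingleton.elim (α := PrimeSpectrum (IsLocalRing.ResidueField A)) _ _⟩⟩
  haveI : IsAffineHom (pullback.snd G₀.hom ψ) := inferInstance
  exact FlatDesc26.isAffine_of_flat_cover G₀.hom ψ

end Groth.Agent.SpecAff15
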