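import Mathlib.RingTheory.ZariskisMainTheorem
import Mathlib.RingTheory.IntegralClosure.GoingDown
import Mathlib.RingTheory.Polynomial.IsIntegral
import Mathlib.RingTheory.Valuation.ValuationRing
import Mathlib.FieldTheory.IsAlgClosed.Basic
import Mathlib.RingTheory.Valuation.Integral
import Mathlib.RingTheory.Valuation.LocalSubring
import Mathlib.Algebra.GCDMonoid.IntegrallyClosed
import Mathlib.RingTheory.Bezout
import Groth.Agent.Lib.QFChart4

/-!
# Lifting rational points of the special fibre to sections over a valuation ring with algebraically closed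
fraction field
-/

set_option autoImplicit false
set_option linter.style.haveILetI false

universe u

open MvPolynomial

namespace Groth.Agent.SpecAff15

theorem isIntegrallyClosed_mvPolynomial {V : Type u} [CommRing V] [IsDomain V] [IsIntegrallyClosed V] :
    ∀ n, IsIntegrallyClosed (MvPolynomial (Fin n) V)
  | 0 => IsIntegrallyClosed.of_equiv (MvPolynomial.isEmptyRingEquiv V (Fin 0)).symm
  | n + 1 => by
    haveI := isIntegrallyClosed_mvPolynomial (V := V) n
    exact IsIntegrallyClosed.of_equiv (MvPolynomial.finSuccEquiv V n).toRingEquiv.symm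

variable {V : Type u} [CommRing V] [IsDomain V] [ValuationRing V]
  {K : Type u} [Field K] [IsAlgClosed K] [Algebra V K] [IsFractionRing V K]

include K in
/-- Integral domains over `V` are trivial. -/
theorem bijective_of_isIntegral {D : Type u} [CommRing D] [IsDomain D] (g : V →+* D) (hg : Function.Injective g)
    (hint : ∀ y, g.IsIntegralElem y) : Function.Bijective g := by
  refine ⟨hg, fun y => ?_⟩
  let L := FractionRing D
  have hgL : Function.Injective ((algebraMap D L).comp g) := (IsFractionRing.injective D L).comp hg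
  obtain ⟨j, hj⟩ : ∃ j : K →+* L, j.comp (algebraMap V K) = (algebraMap D L).comp g :=
    ⟨IsFractionRing.lift hgL, RingHom.ext fun v => IsFractionRing.lift_algebraMap (K := K) hgL v⟩
  obtain ⟨p, hp, hpy⟩ := hint y
  have hr : (p.map (algebraMap V K)).map j = (p.map g).map (algebraMap D L) := by
    rw [Polynomial.map_map, Polynomial.map_map]
    rw [hj]
  have hm := hp.map (algebraMap V K)
  have hy0 : Polynomial.eval (algebraMap D L y) ((p.map (algebraMap V K)).map j) = 0 := by
    rw [hr, Polynomial.eval_map, Polynomial.eval₂_map, ← Polynomial.hom_eval₂, hpy, map_zero]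
  obtain ⟨x, hx⟩ : ∃ x, j x = algebraMap D L y := by
    rw [(IsAlgClosed.splits _).eq_prod_roots_of_monic hm, Polynomial.map_multiset_prod,
      Multiset.map_map, Polynomial.eval_multiset_prod, Multiset.map_map, Multiset.prod_eq_zero_iff,
      Multiset.mem_map] at hy0
    obtain ⟨x, -, hx⟩ := hy0
    simp [sub_eq_zero] at hx
    exact ⟨x, hx.symm⟩
  have hxV : _root_.IsIntegral V x := by
    refine ⟨p, hp, j.injective ?_⟩
    rw [map_zero, Polynomial.hom_eval₂, hx, hj, ← Polynomial.hom_eval₂, hpy, map_zero]
  obtain ⟨v, rfl⟩ := IsIntegrallyClosed.isIntegral_iff.1 hxV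
  refine ⟨v, IsFractionRing.injective D L ?_⟩
  exact (RingHom.congr_fun hj v).symm.trans hx

include K in
/-- Rational points near the generic point of a component of maximal dimension of the special fibre lift. -/
theorem exists_open_lifts {k : Type u} [Field k] (r : V →+* k) (hr : Function.Surjective r)
    {B : Type u} [CommRing B] [IsDomain B] [Algebra V B] [Algebra.FiniteType V B]
    (hinj : Function.Injective (algebraMap V B))
    (P : Ideal B) [P.IsPrime] (hP : P.under V = IsLocalRing.maximalIdeal V)
    (hmin : ∀ Q : Ideal B, Q.IsPrime → Q.under V = P.under V → Q ≤ P → Q = P) :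
    ∃ f ∉ P, ∀ χ : B →+* k, (∀ v, χ (algebraMap V B v) = r v) → χ f ≠ 0 →
      ∃ s : B →+* V, (∀ v, s (algebraMap V B v) = v) ∧ r.comp s = χ := by
  classical
  obtain ⟨n, b, hqf, hPA⟩ := QFChart4.exists_qf_chart P hmin
  rw [hP] at hPA
  letI := (aeval (R := V) b).toRingHom.toAlgebra
  haveI : IsScalarTower V (MvPolynomial (Fin n) V) B :=
    IsScalarTower.of_algebraMap_eq fun v => ((aeval (R := V) b).commutes v).symm
  haveI : Algebra.FiniteType (MvPolynomial (Fin n) V) B :=
    Algebra.FiniteType.of_restrictScalars_finiteType V (MvPolynomial (Fin n) V) B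
  haveI := hqf
  have hAinj : Function.Injective (algebraMap (MvPolynomial (Fin n) V) B) := by
    rw [injective_iff_map_eq_zero]
    intro a ha
    by_contra ha0
    obtain ⟨m₁, hm₁⟩ := MvPolynomial.support_nonempty.2 ha0
    obtain ⟨m₀, hm₀, hdvd⟩ : ∃ m₀ ∈ a.support, ∀ m ∈ a.support, a.coeff m₀ ∣ a.coeff m := by
      obtain ⟨m₀, hm₀, hmax⟩ := Finset.exists_max_image a.support
        (fun m => ValuationRing.valuation V K (algebraMap V K (a.coeff m))) ⟨m₁, hm₁⟩
      refine ⟨m₀, hm₀, fun m hm => ?_⟩
      obtain ⟨v, hv⟩ := hmax m hm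
      exact ⟨v, IsFractionRing.injective V K (by rw [map_mul, mul_comm, ← Algebra.smul_def]; exact hv.symm)⟩
    choose! v hv using hdvd
    let a' : MvPolynomial (Fin n) V := ∑ m ∈ a.support, monomial m (if m = m₀ then 1 else v m)
    have he : a = C (a.coeff m₀) * a' := by
      conv_lhs => rw [a.as_sum]
      rw [Finset.mul_sum]
      refine Finset.sum_congr rfl fun m hm => ?_
      rw [C_mul_monomial]
      congr 1
      split_ifs with h
      · rw [mul_one, h]
      · exact hv m hm
    rw [he, map_mul] at ha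
    rcases mul_eq_zero.1 ha with h | h
    · refine MvPolynomial.mem_support_iff.1 hm₀ (hinj ?_)
      rw [map_zero, ← h]
      exact ((aeval (R := V) b).commutes _).symm
    · have h2 : a' ∈ (IsLocalRing.maximalIdeal V).map C := by
        rw [← hPA, Ideal.mem_comap]
        exact (show (aeval (R := V) b) a' = 0 from h) ▸ P.zero_mem
      have h3 := MvPolynomial.mem_map_C_iff.1 h2 m₀
      simp [a', MvPolynomial.coeff_sum, MvPolynomial.coeff_monomial, MvPolynomial.mem_support_iff.1 hm₀] at h3
  haveI : IsIntegrallyClosed (MvPolynomial (Fin n) V) := isIntegrallyClosed_mvPolynomial n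
  obtain ⟨f₀, hfP, hfint, hf⟩ := Algebra.zariskisMainProperty_iff.1
    (Algebra.ZariskisMainProperty.of_finiteType (R := MvPolynomial (Fin n) V) P)
  let f : integralClosure (MvPolynomial (Fin n) V) B := ⟨f₀, hfint⟩
  refine ⟨f.1, hfP, fun χ hχ hχf => ?_⟩
  choose a ha using fun i => hr (χ (b i))
  let ev : MvPolynomial (Fin n) V →+* V := (aeval a).toRingHom
  have hχA : χ.comp (algebraMap (MvPolynomial (Fin n) V) B) = r.comp ev := by
    refine MvPolynomial.ringHom_ext (fun v => ?_) (fun i => ?_)
    · show χ (aeval b (C v)) = r (aeval a (C v))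
      rw [aeval_C, aeval_C, hχ]; rfl
    · show χ (aeval b (X i)) = r (aeval a (X i))
      rw [aeval_X, aeval_X, ha]
  let S := integralClosure (MvPolynomial (Fin n) V) B
  haveI : FaithfulSMul (MvPolynomial (Fin n) V) S :=
    (faithfulSMul_iff_algebraMap_injective _ _).2 fun x y h => hAinj (congrArg Subtype.val h)
  let q : Ideal S := (RingHom.ker χ).comap S.val.toRingHom
  haveI : (RingHom.ker χ).IsPrime := RingHom.ker_isPrime χ
  haveI : q.IsPrime := Ideal.IsPrime.comap _
  haveI : (RingHom.ker ev).IsPrime := RingHom.ker_isPrime ev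
  have hle : RingHom.ker ev ≤ q.under (MvPolynomial (Fin n) V) := fun g hg => by
    show χ (algebraMap (MvPolynomial (Fin n) V) B g) = 0
    rw [← RingHom.comp_apply, hχA, RingHom.comp_apply, (show ev g = 0 from hg), map_zero]
  obtain ⟨Q, hQq, hQ, hQo⟩ := q.exists_ideal_le_liesOver_of_le (p := RingHom.ker ev)
    (q := q.under (MvPolynomial (Fin n) V)) hle
  haveI := hQ
  let g : V →+* S ⧸ Q := (Ideal.Quotient.mk Q).comp ((algebraMap (MvPolynomial (Fin n) V) S).comp C)
  have hevC : ∀ v, ev (C v) = v := fun v => by simp [ev]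
  have hker : ∀ w, algebraMap (MvPolynomial (Fin n) V) S w ∈ Q ↔ ev w = 0 := fun w => by
    rw [← RingHom.mem_ker, hQo.over]
    rfl
  have hgev : ∀ w, g (ev w) = Ideal.Quotient.mk Q (algebraMap (MvPolynomial (Fin n) V) S w) := fun w => by
    refine (Ideal.Quotient.eq.2 ?_)
    rw [RingHom.comp_apply, ← map_sub, hker, map_sub, hevC, sub_self]
  have hg : Function.Bijective g := by
    refine bijective_of_isIntegral (K := K) g ?_ fun y => ?_
    · rw [injective_iff_map_eq_zero]
      intro v hv
      rw [← hevC v]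
      exact (hker _).1 (Ideal.Quotient.eq_zero_iff_mem.1 hv)
    · obtain ⟨y, rfl⟩ := Ideal.Quotient.mk_surjective y
      obtain ⟨p, hp, hpy⟩ := (Algebra.IsIntegral.isIntegral y : _root_.IsIntegral (MvPolynomial (Fin n) V) y)
      refine ⟨p.map ev, hp.map _, ?_⟩
      rw [Polynomial.eval₂_map, show g.comp ev = (Ideal.Quotient.mk Q).comp
        (algebraMap (MvPolynomial (Fin n) V) S) from RingHom.ext hgev, ← Polynomial.hom_eval₂, hpy, map_zero]
  let σ : S →+* V := (RingEquiv.ofBijective g hg).symm.toRingHom.comp (Ideal.Quotient.mk Q)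
  have hσ : ∀ y, g (σ y) = Ideal.Quotient.mk Q y := fun y => (RingEquiv.ofBijective g hg).apply_symm_apply _
  have hrσ : ∀ y : S, r (σ y) = χ y.1 := fun y => by
    have h1 := hQq (Ideal.Quotient.eq.1 (hσ y).symm)
    have h2 : χ (y.1 - (algebraMap (MvPolynomial (Fin n) V) S (C (σ y))).1) = 0 := h1
    rw [map_sub, sub_eq_zero] at h2
    rw [h2]
    show r (σ y) = χ (algebraMap (MvPolynomial (Fin n) V) B (C (σ y)))
    rw [← RingHom.comp_apply χ, hχA, RingHom.comp_apply]
    exact congrArg r (hevC _).symm
  have hfu : IsUnit (σ f) := by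
    by_contra hu
    refine hχf ?_
    rw [← hrσ, ← RingHom.mem_ker, IsLocalRing.eq_maximalIdeal (RingHom.ker_isMaximal_of_surjective r hr)]
    exact hu
  obtain ⟨u, hu⟩ := hfu
  choose m hm using hf
  let y : B → S := fun x => ⟨f₀ ^ m x * x, hm x⟩
  let sf : B → V := fun x => σ (y x) * (↑(u ^ m x)⁻¹ : V)
  have key : ∀ (x : B) (l : ℕ) (z : S), z.1 = f₀ ^ l * x → sf x * σ f ^ l = σ z := by
    intro x l z hz
    have e : y x * f ^ l = z * f ^ m x := Subtype.ext (by
      simp only [y, f, MulMemClass.coe_mul, SubmonoidClass.coe_pow, hz]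
      ring)
    have h1 := congrArg σ e
    rw [map_mul, map_mul, map_pow, map_pow] at h1
    calc sf x * σ f ^ l = σ (y x) * σ f ^ l * (↑(u ^ m x)⁻¹ : V) := by simp only [sf]; ring
      _ = σ z * σ f ^ m x * (↑(u ^ m x)⁻¹ : V) := by rw [h1]
      _ = σ z := by rw [mul_assoc, ← hu, ← Units.val_pow_eq_pow_val, Units.mul_inv, mul_one]
  have hc : ∀ l, IsUnit (σ f ^ l) := fun l => (hu ▸ u.isUnit).pow l
  have hS : ∀ z : S, sf z.1 = σ z := fun z => by simpa using key z.1 0 z (by simp)
  let s : B →+* V :=
    { toFun := sf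
      map_one' := by rw [← OneMemClass.coe_one S, hS, map_one]
      map_zero' := by rw [← ZeroMemClass.coe_zero S, hS, map_zero]
      map_mul' := fun a b => (hc (m a + m b)).mul_right_cancel (by
        rw [key (a * b) (m a + m b) (y a * y b) (by simp only [y, MulMemClass.coe_mul]; ring), map_mul,
          ← key a (m a) (y a) rfl, ← key b (m b) (y b) rfl]
        ring)
      map_add' := fun a b => (hc (m a + m b)).mul_right_cancel (by
        rw [key (a + b) (m a + m b) (y a * f ^ m b + y b * f ^ m a) (by
          simp only [y, f, AddMemClass.coe_add, MulMemClass.coe_mul, SubmonoidClass.coe_pow]; ring),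
          map_add, map_mul, map_mul, map_pow, map_pow, ← key a (m a) (y a) rfl, ← key b (m b) (y b) rfl]
        ring) }
  refine ⟨s, fun v => ?_, RingHom.ext fun x => ?_⟩
  · rw [show algebraMap V B v = (algebraMap (MvPolynomial (Fin n) V) S (C v)).1 from
      ((aeval (R := V) b).commutes v).symm]
    exact (hS _).trans (hg.1 (hσ _))
  · have h1 := congrArg r (key x (m x) (y x) rfl)
    rw [map_mul, map_pow, hrσ, hrσ] at h1
    refine mul_right_cancel₀ (pow_ne_zero (m x) hχf) (h1.trans ?_)
    show χ (f₀ ^ m x * x) = χ x * χ f₀ ^ m x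
    rw [map_mul, map_pow, mul_comm]

end Groth.Agent.SpecAff15
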