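import Groth.Agent.Lib.SpecAff15.Points
import Groth.Agent.Lib.SpecAff15.Criteria
import Groth.Agent.Lib.UInvFG21.Main
import Groth.Agent.Lib.AffGrp19.Main
import Groth.Agent.Lib.VarDim.Normal
import Groth.Agent.Lib.SmoothReg17.Basic
import Groth.Agent.Lib.GrpComp19.Basic

/-!
# Affine subgroups specialise to affine subgroups, subgroups without subtori to subgroups without subtori
-/

set_option autoImplicit false
set_option linter.style.haveILetI false
set_option backward.isDefEq.respectTransparency false
set_option backward.isDefEq.respectTransparency.types false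
set_option maxSynthPendingDepth 3
set_option synthInstance.maxHeartbeats 400000
universe u

open CategoryTheory CategoryTheory.Limits MonoidalCategory CartesianMonoidalCategory MonObj AlgebraicGeometry

noncomputable section

namespace Groth.Agent.SpecAff15

open SubSpec19 InvRing21

attribute [local instance] funAlg InvRing21.gamAlg

instance nonempty_top (X : Scheme.{u}) [Nonempty X] : Nonempty (⊤ : X.Opens) := ⟨⟨Classical.arbitrary X, trivial⟩⟩

section field

variable {k : Type u} [Field k] {X : Over (Spec (CommRingCat.of k))} [GrpObj X]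

theorem lTr_comp_inv (c : VecGrp.pt k k ⟶ X) : lTr c ≫ lTr c⁻¹ = 𝟙 X := by
  rw [comp_lTr, lTr, ← _root_.mul_assoc, ← MonObj.comp_mul, inv_mul_cancel, MonObj.comp_one, _root_.one_mul]

theorem lTr_inv_comp (c : VecGrp.pt k k ⟶ X) : lTr c⁻¹ ≫ lTr c = 𝟙 X := by
  conv_lhs => arg 2; rw [← inv_inv c]
  exact lTr_comp_inv c⁻¹

instance isIso_lTr (c : VecGrp.pt k k ⟶ X) : IsIso (lTr c).left :=
  haveI : IsIso (lTr c) := ⟨lTr c⁻¹, lTr_comp_inv c, lTr_inv_comp c⟩
  inferInstanceAs (IsIso ((Over.forget _).map (lTr c)))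

variable [IsIntegral X.left]

/-- The automorphism of the function field given by a rational point. -/
def trF (c : VecGrp.pt k k ⟶ X) : X.left.functionField ≃ₐ[k] X.left.functionField :=
  funEquiv (lTr c) (lTr c⁻¹) (lTr_comp_inv c) (lTr_inv_comp c)

omit [GrpObj X] in
theorem germ_gamAlg [Nonempty (⊤ : X.left.Opens)] (c : k) :
    X.left.germToFunctionField ⊤ (algebraMap k Γ(X.left, ⊤) c) = algebraMap k X.left.functionField c := by
  show X.left.presheaf.germ ⊤ _ trivial (X.hom.appTop ((Scheme.ΓSpecIso (CommRingCat.of k)).inv c)) =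
    (baseHom X.hom (genericPoint X.left)).hom c
  rw [baseHom_eq]
  rfl

/-- Evaluation at the generic point, as an algebra map. -/
def germAlg [Nonempty (⊤ : X.left.Opens)] : Γ(X.left, ⊤) →ₐ[k] X.left.functionField :=
  { (X.left.germToFunctionField ⊤).hom with commutes' := germ_gamAlg }

/-- The functions defined at a rational point. -/
def stk (y : VecGrp.pt k k ⟶ X) : Subalgebra k X.left.functionField where
  __ := (algebraMap (X.left.presheaf.stalk (img y)) X.left.functionField).range
  algebraMap_mem' c := by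
    refine ⟨(baseHom X.hom (img y)).hom c, ?_⟩
    have h : baseHom X.hom (img y) ≫
        X.left.presheaf.stalkSpecializes ((genericPoint_spec X.left).specializes trivial) =
        baseHom X.hom (genericPoint X.left) := Spec.map_injective (by
      rw [Spec.map_comp, baseHom_spec, baseHom_spec, Scheme.SpecMap_stalkSpecializes_fromSpecStalk_assoc])
    exact ConcreteCategory.congr_hom h c

theorem trF_mem_stk (z x : VecGrp.pt k k ⟶ X) {e : X.left.functionField} (he : e ∈ stk (z * x)) :
    trF z e ∈ stk x := by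
  obtain ⟨o, rfl⟩ := he
  have hpt : (lTr z).left (img x) = img (z * x) := by
    have h : x ≫ lTr z = z * x := by rw [comp_lTr, toPt_pt, Category.id_comp]
    rw [← h]; rfl
  refine ⟨(stalkHom (lTr z).left (img x) (x := img (z * x)) (specializes_of_eq hpt)).hom o, ?_⟩
  have h : stalkHom (lTr z).left (img x) (x := img (z * x)) (specializes_of_eq hpt) ≫
      X.left.presheaf.stalkSpecializes ((genericPoint_spec X.left).specializes trivial) =
      X.left.presheaf.stalkSpecializes ((genericPoint_spec X.left).specializes trivial) ≫ funHom (lTr z) := by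
    refine stalkHom_ext ?_
    rw [Spec.map_comp, Spec.map_comp, Category.assoc, Category.assoc, stalkHom_spec,
      Scheme.SpecMap_stalkSpecializes_fromSpecStalk_assoc, Scheme.SpecMap_stalkSpecializes_fromSpecStalk,
      funHom_spec]
  exact ConcreteCategory.congr_hom h o

theorem exists_stk_subset [LocallyOfFiniteType X.hom] [IsAlgClosed k] (C : Finset X.left.functionField) :
    ∃ y : VecGrp.pt k k ⟶ X, (↑C : Set X.left.functionField) ⊆ stk y := by
  classical
  have hloc : ∀ e : X.left.functionField, ∃ W : X.left.Opens, genericPoint X.left ∈ W ∧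
      ∀ y : VecGrp.pt k k ⟶ X, img y ∈ W → e ∈ stk y := fun e => by
    obtain ⟨W, hW, a, ha⟩ := X.left.presheaf.exists_germ_eq e
    refine ⟨W, hW, fun y hy => ⟨X.left.presheaf.germ W (img y) hy a, ?_⟩⟩
    haveI : Nonempty W := ⟨⟨_, hW⟩⟩
    rw [VarDim.germ_functionField_eq W (img y) hy a]
    exact ha
  choose W hW hWy using hloc
  obtain ⟨y, hy⟩ := BorelFix21.exists_pt_mem (Z := ⋂ e ∈ C, (W e : Set X.left))
    (isOpen_biInter_finset fun e _ => (W e).2).isLocallyClosed
    ⟨genericPoint X.left, Set.mem_iInter₂.2 fun e _ => hW e⟩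
  exact ⟨y, fun e he => hWy e y (Set.mem_iInter₂.1 hy e he)⟩

omit [GrpObj X] in
/-- Functions defined at all rational points are global. -/
theorem exists_global [LocallyOfFiniteType X.hom] [IsAlgClosed k] [Nonempty (⊤ : X.left.Opens)]
    (e : X.left.functionField) (he : ∀ y : VecGrp.pt k k ⟶ X, e ∈ stk y) :
    ∃ a : Γ(X.left, ⊤), X.left.germToFunctionField ⊤ a = e := by
  refine VarDim.exists_section_of_forall_stalk ⊤ e fun x _ => ?_
  obtain ⟨y, hy⟩ := BorelFix21.exists_pt_mem (Z := closure ({x} : Set X.left)) isClosed_closure.isLocallyClosed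
    ⟨x, subset_closure rfl⟩
  obtain ⟨o, ho⟩ := he y
  have hxy : x ⤳ img y := specializes_iff_mem_closure.2 hy
  refine ⟨X.left.presheaf.stalkSpecializes hxy o, ?_⟩
  have ho' : (X.left.presheaf.stalkSpecializes ((genericPoint_spec X.left).specializes trivial)).hom o = e := ho
  rw [← ho']
  show (X.left.presheaf.stalkSpecializes hxy ≫
    X.left.presheaf.stalkSpecializes ((genericPoint_spec X.left).specializes trivial)).hom o = _
  rw [TopCat.Presheaf.stalkSpecializes_comp]

/-- A translation is determined by its action on the function field. -/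
theorem trF_injective [LocallyOfFiniteType X.hom] : Function.Injective (trF (X := X)) := by
  intro a b h
  haveI := AbRigid.isSeparated_of_grpObj X
  have e : funHom (lTr a) = funHom (lTr b) := CommRingCat.hom_ext (RingHom.ext fun x => AlgEquiv.congr_fun h x)
  haveI : IsDominant (X.left.fromSpecStalk (genericPoint X.left)) := by
    have hm : genericPoint X.left ∈ Set.range (X.left.fromSpecStalk (genericPoint X.left)) :=
      ⟨IsLocalRing.closedPoint _, Scheme.fromSpecStalk_closedPoint⟩
    refine ⟨fun y => closure_mono (Set.singleton_subset_iff.2 hm) ?_⟩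
    exact specializes_iff_mem_closure.1 (genericPoint_specializes y)
  have hl : (lTr a).left = (lTr b).left := by
    refine ext_of_isDominant_of_isSeparated X.hom ((Over.w _).trans (Over.w _).symm)
      (X.left.fromSpecStalk (genericPoint X.left)) ?_
    rw [← funHom_spec, ← funHom_spec, e]
  have h1 : (1 : VecGrp.pt k k ⟶ X) ≫ lTr a = (1 : VecGrp.pt k k ⟶ X) ≫ lTr b := by
    rw [show lTr a = lTr b from Over.OverMorphism.ext hl]
  simpa only [comp_lTr, toPt_pt, Category.id_comp, _root_.mul_one] using h1

theorem funHom_pow (c : VecGrp.pt k k ⟶ X) (n : ℕ) : ⇑(trF (c ^ n)) = (trF c)^[n] := by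
  induction n with
  | zero =>
    funext x
    show funHom (lTr (c ^ 0)) x = x
    haveI : Surjective (𝟙 X : X ⟶ X).left := ⟨fun y => ⟨y, rfl⟩⟩
    rw [funHom_eq_of (lTr (c ^ 0)) (𝟙 X) (by rw [pow_zero, lTr, MonObj.comp_one, _root_.one_mul]), funHom_id]
    rfl
  | succ n ih =>
    funext x
    rw [Function.iterate_succ_apply', ← ih]
    show funHom (lTr (c ^ (n + 1))) x = funHom (lTr c) (funHom (lTr (c ^ n)) x)
    haveI : Surjective (lTr c ≫ lTr (c ^ n)).left :=
      inferInstanceAs (Surjective ((lTr c).left ≫ (lTr (c ^ n)).left))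
    rw [← CommRingCat.comp_apply, ← funHom_comp, funHom_eq_of _ (lTr c ≫ lTr (c ^ n)) (by
      rw [comp_lTr, pow_succ]
      conv_rhs => arg 2; rw [lTr]
      rw [lTr, MonObj.comp_mul, _root_.mul_assoc])]

end field

variable {V : Type u} [CommRing V] [IsDomain V] [ValuationRing V]
  {K : Type u} [Field K] [IsAlgClosed K] [Algebra V K] [IsFractionRing V K]
  {k : Type u} [Field k] [IsAlgClosed k] {r : V →+* k}
  {G : Over (Spec (CommRingCat.of V))} [GrpObj G] [LocallyOfFinitePresentation G.hom] [QuasiCompact G.hom]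
  {H : Over (Spec (CommRingCat.of K))} [GrpObj H] {i : H ⟶ Red.bc (Spec.map (CommRingCat.ofHom (algebraMap V K))) G}
  [IsMonHom i] [IsClosedImmersion i.left]
  {H' : Over (Spec (CommRingCat.of k))} [GrpObj H'] {i' : H' ⟶ Red.bc (Spec.map (CommRingCat.ofHom r)) G}
  [IsMonHom i'] [IsClosedImmersion i'.left]
  [Smooth H.hom] [ConnectedSpace H.left] [Smooth H'.hom] [ConnectedSpace H'.left]
  [IsIntegral H.left] [IsIntegral H'.left]

omit [ConnectedSpace H.left] [ConnectedSpace H'.left] in
/-- A lifted point gives a translation of the setting. -/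
theorem exists_trans (hx : Set.range (gE i') ⊆ closure (genSet G i)) {x : VecGrp.pt k k ⟶ H'}
    (hl : Liftable i i' x) :
    ∃ (c : VecGrp.pt K K ⟶ H) (T : Trans K (phi hx) (psi i')), T.σ = trF c ∧ T.τ = (trF x).toRingEquiv := by
  obtain ⟨s, c, hc, hxs⟩ := hl
  have hwF := trans_comm _ i s c hc
  have hwE := trans_comm _ i' s x hxs
  have hξ : (trS s).left (xi i') ⤳ xi i' := by
    refine specializes_of_eq ?_
    show (gE i' ≫ (trS s).left) (genericPoint H'.left) = _
    rw [← hwE]
    show gE i' ((lTr x).left (genericPoint H'.left)) = _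
    rw [apply_genericPoint_of_surjective]
  refine ⟨c, ⟨trF c, (trF x).toRingEquiv, fun o => ⟨(stalkHom (trS s).left (xi i') hξ).hom o, ?_, ?_⟩⟩, rfl, rfl⟩
  · have h : stalkHom (trS s).left (xi i') hξ ≫ stalkHom (gF i) (genericPoint H.left) (specializes_of_range i i' hx _) =
        stalkHom (gF i) (genericPoint H.left) (specializes_of_range i i' hx _) ≫ funHom (lTr c) := by
      refine stalkHom_ext ?_
      rw [Spec.map_comp, Spec.map_comp, Category.assoc, Category.assoc, stalkHom_spec, reassoc_of% stalkHom_spec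
        (gF i) (genericPoint H.left) (specializes_of_range i i' hx (genericPoint H'.left)), stalkHom_spec,
        reassoc_of% funHom_spec (lTr c)]
      exact congrArg (H.left.fromSpecStalk _ ≫ ·) hwF.symm
    exact ConcreteCategory.congr_hom h o
  · have h : stalkHom (trS s).left (xi i') hξ ≫ stalkHom (gE i') (genericPoint H'.left) (x := xi i') specializes_rfl =
        stalkHom (gE i') (genericPoint H'.left) (x := xi i') specializes_rfl ≫ funHom (lTr x) := by
      refine stalkHom_ext ?_
      rw [Spec.map_comp, Spec.map_comp, Category.assoc, Category.assoc, stalkHom_spec, reassoc_of% stalkHom_spec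
        (gE i') (genericPoint H'.left) (x := xi i') specializes_rfl, stalkHom_spec,
        reassoc_of% funHom_spec (lTr x)]
      exact congrArg (H'.left.fromSpecStalk _ ≫ ·) hwE.symm
    exact ConcreteCategory.congr_hom h o

/-- Every function is a quotient of functions in finite dimensional translation stable spaces. -/
theorem exists_stable (H : Over (Spec (CommRingCat.of K))) [GrpObj H] [Smooth H.hom] [IsAffine H.left]
    [IsIntegral H.left] (f : H.left.functionField) :
    ∃ W : Submodule K H.left.functionField, FiniteDimensional K W ∧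
      (∀ c : VecGrp.pt K K ⟶ H, ∀ g ∈ W, trF c g ∈ W) ∧
      (∀ g ∈ W, ∃ a : Γ(H.left, ⊤), germAlg a = g) ∧
      ∃ f₁ ∈ W, ∃ f₂ ∈ W, f₂ ≠ 0 ∧ f = f₁ / f₂ := by
  haveI : Nonempty (⊤ : H.left.Opens) := ⟨⟨genericPoint H.left, trivial⟩⟩
  letI := TopCat.Presheaf.algebra_section_stalk H.left.presheaf (⟨genericPoint H.left, trivial⟩ : (⊤ : H.left.Opens))
  haveI : IsFractionRing Γ(H.left, ⊤) H.left.functionField :=
    functionField_isFractionRing_of_isAffineOpen H.left ⊤ (isAffineOpen_top _)
  obtain ⟨a, b, hb, hab⟩ := IsFractionRing.div_surjective (A := Γ(H.left, ⊤)) f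
  let S := UInvFG21.trSpan (G := H) a ⊔ UInvFG21.trSpan (G := H) b
  haveI := UInvFG21.finite_trSpan (G := H) a
  haveI := UInvFG21.finite_trSpan (G := H) b
  have hmem : ∀ a, a ∈ UInvFG21.trSpan (G := H) a := fun a => Submodule.subset_span
    ⟨1, by
      show (lTr (1 : VecGrp.pt K K ⟶ H)).left.appTop a = a
      rw [lTr_one, Over.id_left]
      rfl⟩
  refine ⟨S.map (germAlg (X := H)).toLinearMap, inferInstance, ?_, ?_, ?_⟩
  · rintro c _ ⟨y, hy, rfl⟩
    refine ⟨(lTr c).left.appTop y, ?_, (funHom_germ (lTr c) y).symm⟩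
    obtain ⟨y₁, hy₁, y₂, hy₂, rfl⟩ := Submodule.mem_sup.1 hy
    rw [map_add]
    exact Submodule.add_mem_sup (UInvFG21.lTr_mem_trSpan hy₁ c) (UInvFG21.lTr_mem_trSpan hy₂ c)
  · rintro _ ⟨y, -, rfl⟩
    exact ⟨y, rfl⟩
  · exact ⟨_, ⟨a, Submodule.mem_sup_left (hmem a), rfl⟩, _, ⟨b, Submodule.mem_sup_right (hmem b), rfl⟩,
      fun h0 => nonZeroDivisors.ne_zero hb ((H.left.germToFunctionField_injective ⊤) (h0.trans (map_zero _).symm)),
      hab.symm⟩

variable (hr : Function.Surjective r) (hx : Set.range (gE i') ⊆ closure (genSet G i))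
  (hd : topologicalKrullDim H.left ≤ topologicalKrullDim H'.left)

include hr hx hd in
/-- The function field of the special subgroup is algebraic over the global functions. -/
theorem isAlgebraic_global [IsAffine H.left] (e : H'.left.functionField) :
    IsAlgebraic (⨅ y, stk (X := H') y : Subalgebra k H'.left.functionField) e := by
  obtain ⟨hsetup, -⟩ := setup_and_lift hr hx hd
  refine isAlgebraic_of_translations hsetup (fun y => stk (X := H') y) (fun y e he => ?_)
    {T | ∃ c : VecGrp.pt K K ⟶ H, T.σ = trF c} (fun C x => ?_) (fun f => ?_) e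
  · haveI := SmoothReg17.isIntegrallyClosed_stalk H'.hom (img y)
    obtain ⟨p, hp, hpe⟩ := he
    have hint : _root_.IsIntegral (H'.left.presheaf.stalk (img y)) e := by
      have hsurj : ∀ a : stk (X := H') y, ∃ o, algebraMap (H'.left.presheaf.stalk (img y)) H'.left.functionField o = a :=
        fun a => a.2
      have hl : p.map (algebraMap (stk (X := H') y) H'.left.functionField) ∈
          Polynomial.lifts (algebraMap (H'.left.presheaf.stalk (img y)) H'.left.functionField) := by
        rw [Polynomial.lifts_iff_coeff_lifts]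
        intro n
        rw [Polynomial.coeff_map]
        exact hsurj _
      obtain ⟨q, hq, -, hqm⟩ := Polynomial.lifts_and_degree_eq_and_monic hl (hp.map _)
      refine ⟨q, hqm, ?_⟩
      rw [← Polynomial.eval_map, hq, Polynomial.eval_map]
      exact hpe
    exact IsIntegrallyClosed.isIntegral_iff.1 hint
  · obtain ⟨y, hy⟩ := exists_stk_subset (X := H') C
    obtain ⟨c, T, hTσ, hTτ⟩ := exists_trans hx (all_liftable hr hx hd (y * x⁻¹))
    refine ⟨T, ⟨c, hTσ⟩, y, hy, fun e he => ?_⟩
    rw [hTτ]
    exact trF_mem_stk _ _ (by rwa [inv_mul_cancel_right])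
  · obtain ⟨W, hW, hWs, -, hf⟩ := exists_stable H f
    refine ⟨W, hW, fun T hT g hg => ?_, hf⟩
    obtain ⟨c, hc⟩ := hT
    rw [hc]
    exact hWs c⁻¹ g hg

include hr hx hd in
/-- The special subgroup of an affine subgroup is affine. -/
theorem isAffine_special [IsAffine H.left] [QuasiCompact H'.hom] : IsAffine H'.left := by
  classical
  haveI := AbRigid.isSeparated_of_grpObj H'
  obtain ⟨hess, -⟩ := funField_props H'
  set Γ₀ := (⨅ y, stk (X := H') y : Subalgebra k H'.left.functionField)
  let N : Set (VecGrp.pt k k ⟶ H') := {z | z ≫ AffGrp19.toAff H' = (1 : VecGrp.pt k k ⟶ H') ≫ AffGrp19.toAff H'}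
  have hfix : ∀ z ∈ N, ∀ e ∈ Γ₀, trF z e = e := by
    intro z hz e he
    obtain ⟨a, rfl⟩ := exists_global (X := H') e (fun y => (Algebra.mem_iInf.1 he) y)
    have h1 : lTr z ≫ AffGrp19.toAff H' = AffGrp19.toAff H' := by
      rw [lTr, MonObj.mul_comp, Category.assoc, show z ≫ AffGrp19.toAff H' = 1 ≫ AffGrp19.toAff H' from hz, MonObj.one_comp, MonObj.comp_one,
        _root_.one_mul, Category.id_comp]
    show funHom (lTr z) (H'.left.germToFunctionField ⊤ a) = _
    rw [funHom_germ]
    congr 1
    haveI := (AffGrp19.good_toAff H').appTop_iso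
    obtain ⟨b, rfl⟩ := (ConcreteCategory.bijective_of_isIso (AffGrp19.toAff H').left.appTop).2 a
    rw [← CommRingCat.comp_apply, ← Scheme.Hom.comp_appTop, ← Over.comp_left, h1]
  choose P hP0 hPe using fun e => isAlgebraic_global hr hx hd e
  have hNfin : N.Finite := by
    let S := Algebra.EssFiniteType.finset k H'.left.functionField
    let R : S → Finset H'.left.functionField := fun e =>
      ((P e).map (algebraMap Γ₀ H'.left.functionField)).roots.toFinset
    have hmaps : ∀ z ∈ N, ∀ e : S, trF z e ∈ R e := fun z hz e => by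
      rw [Multiset.mem_toFinset, Polynomial.mem_roots ((Polynomial.map_ne_zero_iff Subtype.val_injective).2 (hP0 _)),
        Polynomial.IsRoot, Polynomial.eval_map]
      have h := Polynomial.hom_eval₂ (P e) (algebraMap Γ₀ H'.left.functionField) (trF z).toAlgHom.toRingHom (e : _)
      rw [show (trF z).toAlgHom.toRingHom.comp (algebraMap Γ₀ H'.left.functionField) =
        algebraMap Γ₀ H'.left.functionField from RingHom.ext fun a => hfix z hz a a.2] at h
      refine h.symm.trans ?_
      rw [show Polynomial.eval₂ (algebraMap Γ₀ H'.left.functionField) (e : H'.left.functionField) (P e) = 0 from hPe _,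
        map_zero]
    let Φ : N → ∀ e : S, R e := fun z e => ⟨trF z.1 e, hmaps z.1 z.2 e⟩
    refine Set.finite_coe_iff.1 (Finite.of_injective Φ fun z z' h => Subtype.ext (trF_injective ?_))
    refine AlgEquiv.coe_algHom_injective (Algebra.EssFiniteType.algHom_ext _ _ _ fun e he => ?_)
    exact congrArg Subtype.val (congrFun h ⟨e, he⟩)
  exact isAffine_of_finite_kernel H' hNfin

include hr hx hd in
/-- The special subgroup of an affine subgroup without subtori has no subtorus. -/
theorem hasNoSubtorus_special [IsAffine H.left] (hH : Red.HasNoSubtorus K H) : Red.HasNoSubtorus k H' := by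
  obtain ⟨hsetup, -⟩ := setup_and_lift hr hx hd
  obtain ⟨n, hn⟩ := exists_bound_of_unipotent hsetup
  refine hasNoSubtorus_of_torsion H' n fun ℓ hℓ hnℓ x hxℓ => ?_
  obtain ⟨c, T, hTσ, hTτ⟩ := exists_trans hx (all_liftable hr hx hd x)
  have h1 : ⇑T.τ = ⇑(trF x) := by rw [hTτ]; rfl
  refine trF_injective (AlgEquiv.ext fun e => ?_)
  rw [show trF (1 : VecGrp.pt k k ⟶ H') e = e by rw [← pow_zero x, funHom_pow]; rfl, ← h1]
  refine hn ℓ hℓ hnℓ T ?_ (fun a => by rw [h1]; exact (trF x).commutes a) (fun f => ?_) e
  · rw [h1, ← funHom_pow, hxℓ, ← pow_zero x, funHom_pow]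
    rfl
  · obtain ⟨W, hW, hWs, hWg, hf⟩ := exists_stable H f
    refine ⟨W, hW, fun g hg => ⟨hTσ ▸ hWs c g hg, fun s => ?_⟩, hf⟩
    obtain ⟨a, rfl⟩ := hWg g hg
    obtain ⟨D, hD⟩ := exists_delta_eq_zero hH (c ^ s) a
    refine ⟨D, ?_⟩
    rw [show ⇑T.σ = ⇑(trF c) by rw [hTσ], ← funHom_pow]
    haveI : Nonempty (⊤ : H.left.Opens) := ⟨⟨genericPoint H.left, trivial⟩⟩
    have hsemi : Function.Semiconj (germAlg (X := H)) (fun z => (lTr (c ^ s)).left.appTop z - z)
        (fun y => trF (c ^ s) y - y) := fun z => by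
      show germAlg ((lTr (c ^ s)).left.appTop z - z) = funHom (lTr (c ^ s)) (germAlg z) - germAlg z
      rw [map_sub]
      exact congrArg (· - germAlg z) (funHom_germ (lTr (c ^ s)) z).symm
    rw [← (hsemi.iterate_right D).eq a, hD, map_zero]

end Groth.Agent.SpecAff15
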