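import Groth.Agent.Lib.SpecAff15.Setting
import Groth.Agent.Lib.BorelFix21.Pts

/-!
# The setup holds, and all rational points of the special subgroup lift
-/

set_option autoImplicit false
set_option linter.style.haveILetI false
set_option backward.isDefEq.respectTransparency false
set_option backward.isDefEq.respectTransparency.types false
set_option maxSynthPendingDepth 3
set_option synthInstance.maxHeartbeats 400000
universe u

open CategoryTheory CategoryTheory.Limits MonoidalCategory CartesianMonoidalCategory MonObj AlgebraicGeometry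

noncomputable section

namespace Groth.Agent.SpecAff15

open SubSpec19 InvRing21

attribute [local instance] funAlg secAlg

variable {V : Type u} [CommRing V] [IsDomain V] [ValuationRing V]
  {K : Type u} [Field K] [IsAlgClosed K] [Algebra V K] [IsFractionRing V K]
  {k : Type u} [Field k] [IsAlgClosed k] {r : V →+* k}
  {G : Over (Spec (CommRingCat.of V))} [GrpObj G] [LocallyOfFinitePresentation G.hom] [QuasiCompact G.hom]
  {H : Over (Spec (CommRingCat.of K))} [GrpObj H] {i : H ⟶ Red.bc (Spec.map (CommRingCat.ofHom (algebraMap V K))) G}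
  [IsMonHom i] [IsClosedImmersion i.left]
  {H' : Over (Spec (CommRingCat.of k))} [GrpObj H'] {i' : H' ⟶ Red.bc (Spec.map (CommRingCat.ofHom r)) G}
  [IsMonHom i'] [IsClosedImmersion i'.left]
  [IsIntegral H.left] [IsIntegral H'.left] [LocallyOfFiniteType H.hom] [LocallyOfFiniteType H'.hom]

/-- A rational point lies at a single point of the scheme. -/
theorem range_left_pt {F : Type u} [Field F] {X : Over (Spec (CommRingCat.of F))} (x : VecGrp.pt F F ⟶ X) :
    Set.range x.left = {img x} := by
  refine Set.Subset.antisymm ?_ (Set.singleton_subset_iff.2 ⟨_, rfl⟩)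
  rintro _ ⟨z, rfl⟩
  rw [Subsingleton.elim (α := PrimeSpectrum F) z (IsLocalRing.closedPoint F)]
  rfl

set_option maxHeartbeats 4000000 in
/-- The setting satisfies the axioms, and rational points near the generic point of `H'` lift. -/
theorem setup_and_lift (hr : Function.Surjective r) (hx : Set.range (gE i') ⊆ closure (genSet G i))
    (hd : topologicalKrullDim H.left ≤ topologicalKrullDim H'.left) :
    Setup (K := K) r (cHom i') (phi hx) (psi i') ∧
      ∃ W : H'.left.Opens, Nonempty W ∧ ∀ x : VecGrp.pt k k ⟶ H', img x ∈ W → Liftable i i' x := by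
  classical
  haveI : IsClosedImmersion (Spec.map (CommRingCat.ofHom r)) :=
    IsClosedImmersion.spec_of_surjective (CommRingCat.ofHom r) hr
  haveI : IsClosedImmersion (gE i') := inferInstanceAs (IsClosedImmersion (i'.left ≫ pullback.fst G.hom _))
  haveI : LocallyOfFiniteType G.hom := inferInstance
  obtain ⟨hessH, m, hm, hdm⟩ := funField_props H
  -- an affine chart at the generic point of `H'`
  obtain ⟨U, hU, hxU, -⟩ := exists_isAffineOpen_mem_and_subset (U := (⊤ : G.left.Opens)) (x := xi i') trivial
  letI : Algebra V Γ(G.left, U) :=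
    ((Scheme.ΓSpecIso (CommRingCat.of V)).inv ≫ G.hom.appTop ≫ G.left.presheaf.map (homOfLE le_top).op).hom.toAlgebra
  haveI : Algebra.FiniteType V Γ(G.left, U) := by
    have h := G.hom.finiteType_appLE (isAffineOpen_top _) hU (by simp)
    refine (RingHom.finiteType_algebraMap (A := V) (B := Γ(G.left, U))).1 ?_
    rw [RingHom.algebraMap_toAlgebra, CommRingCat.hom_comp]
    refine RingHom.FiniteType.comp ?_ (RingHom.FiniteType.of_surjective _
      (Scheme.ΓSpecIso (CommRingCat.of V)).symm.commRingCatIsoToRingEquiv.surjective)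
    exact h
  let germU : Γ(G.left, U) →+* G.left.presheaf.stalk (xi i') := (G.left.presheaf.germ U (xi i') hxU).hom
  have hgc : ∀ v, germU (algebraMap V Γ(G.left, U) v) = cHom i' v := fun v => by
    show G.left.presheaf.germ U _ hxU (G.left.presheaf.map (homOfLE le_top).op
      (G.hom.appTop ((Scheme.ΓSpecIso (CommRingCat.of V)).inv v))) = (baseHom G.hom (xi i')).hom v
    rw [TopCat.Presheaf.germ_res_apply, baseHom_eq]
    rfl
  let aF : Γ(G.left, U) →+* H.left.functionField := (phi hx).comp germU
  have haF : ∀ v, aF (algebraMap V Γ(G.left, U) v) = algebraMap K _ (algebraMap V K v) := fun v => by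
    rw [RingHom.comp_apply, hgc, phi_cHom]
  have hpsi : Function.Surjective (psi i') := by
    show Function.Surjective (stalkHom (gE i') (genericPoint H'.left) (x := xi i') specializes_rfl).hom
    rw [stalkHom, TopCat.Presheaf.stalkSpecializes_refl, Category.id_comp]
    exact (gE i').stalkMap_surjective _
  have hkerphi : ∀ o, phi hx o = 0 → psi i' o = 0 := fun o ho => by
    by_contra hne
    have hu : IsUnit o := by
      by_contra hu
      refine hne ?_
      rw [← RingHom.mem_ker, IsLocalRing.eq_maximalIdeal (RingHom.ker_isMaximal_of_surjective (psi i') hpsi)]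
      exact hu
    exact (hu.map (phi hx)).ne_zero ho
  -- the chart on the special subgroup
  let U' := gE i' ⁻¹ᵁ U
  have hU' : IsAffineOpen U' := hU.preimage (gE i')
  haveI : Nonempty U' := ⟨⟨genericPoint H'.left, hxU⟩⟩
  haveI := finiteType_sec H' hU'
  haveI := isScalarTower_sec H' U'
  haveI : IsDomain Γ(H'.left, U') := inferInstance
  let ρ : Γ(G.left, U) →+* Γ(H'.left, U') := ((gE i').app U).hom
  have hρsurj : Function.Surjective ρ := (gE i').app_surjective U hU
  have hρgerm : ∀ a, H'.left.germToFunctionField U' (ρ a) = psi i' (germU a) := fun a =>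
    (ConcreteCategory.congr_hom (germ_stalkHom (gE i') (genericPoint H'.left) (x := xi i') specializes_rfl U hxU) a).symm
  have hginj : Function.Injective (H'.left.germToFunctionField U') := H'.left.germToFunctionField_injective U'
  have hρc : ∀ v, ρ (algebraMap V Γ(G.left, U) v) = algebraMap k Γ(H'.left, U') (r v) := fun v => by
    refine hginj ?_
    rw [hρgerm, hgc, psi_cHom, germ_algebraMap]
  have hker : ∀ a, aF a = 0 → ρ a = 0 := fun a ha => hginj (by
    rw [hρgerm, map_zero]; exact hkerphi _ ha)
  have hdim : topologicalKrullDim H'.left = (VarDim.tdeg k Γ(H'.left, U') : WithBot ℕ∞) := dim_eq_tdeg H' hU'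
  set n := VarDim.tdeg k Γ(H'.left, U') with hn
  have hmn : m ≤ n := by
    rw [hdm, hdim] at hd
    exact_mod_cast hd
  -- the basis
  obtain ⟨t, ht⟩ := exists_basis_fin (k := k) (D := Γ(H'.left, U'))
  choose a ha using fun j => hρsurj (t j)
  have hindF : AlgebraicIndependent K (fun j => aF (a j)) :=
    algIndep_lift (K := K) hr aF haF ρ hρc hker (t := a) (by rw [funext ha]; exact ht)
  have hsetup : Setup (K := K) r (cHom i') (phi hx) (psi i') := by
    refine ⟨hr, phi_cHom hx, psi_cHom, hpsi, ⟨n, fun j => germU (a j), ?_, ?_⟩, hessH⟩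
    · have h1 := ht.map' (f := IsScalarTower.toAlgHom k Γ(H'.left, U') H'.left.functionField) hginj
      have e : (fun j => psi i' (germU (a j))) =
          ⇑(IsScalarTower.toAlgHom k Γ(H'.left, U') H'.left.functionField) ∘ t := funext fun j => by
        show psi i' (germU (a j)) = H'.left.germToFunctionField U' (t j)
        rw [← ha j, hρgerm]
      exact e ▸ h1
    · have htb : IsTranscendenceBasis K (fun j : ULift.{u} (Fin n) => aF (a j.down)) := by
        refine (hindF.comp ULift.down ULift.down_injective).isTranscendenceBasis_of_trdeg_le_of_finite ?_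
        rw [hm]
        simpa using hmn
      have he : Set.range (fun j => phi hx (germU (a j))) =
          Set.range (fun j : ULift.{u} (Fin n) => aF (a j.down)) :=
        (ULift.down_surjective.range_comp (fun j => aF (a j))).symm
      rw [he]
      haveI := htb.isAlgebraic
      exact fun f => Algebra.IsAlgebraic.isAlgebraic f
  refine ⟨hsetup, ?_⟩
  -- lifting
  let B := Γ(G.left, U) ⧸ RingHom.ker aF
  haveI : (RingHom.ker aF).IsPrime := RingHom.ker_isPrime aF
  haveI : Algebra.FiniteType V B := inferInstance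
  let ρB : B →+* Γ(H'.left, U') := Ideal.Quotient.lift (RingHom.ker aF) ρ fun x hx' => hker x hx'
  have hρB : Function.Surjective ρB := fun d => by
    obtain ⟨x, rfl⟩ := hρsurj d
    exact ⟨Ideal.Quotient.mk _ x, rfl⟩
  let P : Ideal B := RingHom.ker ρB
  haveI : P.IsPrime := RingHom.ker_isPrime ρB
  have hrker : RingHom.ker r = IsLocalRing.maximalIdeal V :=
    IsLocalRing.eq_maximalIdeal (RingHom.ker_isMaximal_of_surjective r hr)
  have hPV : P.under V = IsLocalRing.maximalIdeal V := by
    rw [← hrker]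
    ext v
    show ρ (algebraMap V Γ(G.left, U) v) = 0 ↔ r v = 0
    rw [hρc, map_eq_zero_iff _ (algebraMap k Γ(H'.left, U')).injective]
  have hinj : Function.Injective (algebraMap V B) := by
    rw [injective_iff_map_eq_zero]
    intro v hv
    have h0 : aF (algebraMap V Γ(G.left, U) v) = 0 := Ideal.Quotient.eq_zero_iff_mem.1 hv
    rw [haF, map_eq_zero_iff _ (algebraMap K _).injective, map_eq_zero_iff _ (IsFractionRing.injective V K)] at h0
    exact h0
  have hmin : ∀ Q : Ideal B, Q.IsPrime → Q.under V = P.under V → Q ≤ P → Q = P := by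
    intro Q hQ hQV hQP
    by_contra hne
    obtain ⟨b, hbP, hbQ⟩ := SetLike.exists_of_lt (lt_of_le_of_ne hQP hne)
    let rQ : k →+* B ⧸ Q := RingHom.liftOfSurjective r hr
      ⟨(Ideal.Quotient.mk Q).comp (algebraMap V B), fun v hv => by
        rw [RingHom.mem_ker, RingHom.comp_apply, Ideal.Quotient.eq_zero_iff_mem]
        have : v ∈ Q.under V := by rw [hQV, hPV, ← hrker]; exact hv
        exact this⟩
    have hrQ : ∀ v, rQ (r v) = Ideal.Quotient.mk Q (algebraMap V B v) := fun v =>
      RingHom.liftOfRightInverse_comp_apply r _ _ _ v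
    letI : Algebra k (B ⧸ Q) := rQ.toAlgebra
    haveI : Algebra.FiniteType k (B ⧸ Q) := by
      refine (RingHom.finiteType_algebraMap (A := k) (B := B ⧸ Q)).1 (RingHom.FiniteType.of_comp_finiteType (f := r) ?_)
      rw [show (algebraMap k (B ⧸ Q)).comp r = algebraMap V (B ⧸ Q) from RingHom.ext fun v => hrQ v]
      exact RingHom.finiteType_algebraMap.2 inferInstance
    let ρQ : B ⧸ Q →+* Γ(H'.left, U') := Ideal.Quotient.lift Q ρB fun x hx' => hQP hx'
    have h1 : VarDim.tdeg k Γ(H'.left, U') < VarDim.tdeg k (B ⧸ Q) := by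
      refine tdeg_lt ρQ (fun d => ?_) (Ideal.Quotient.mk Q b) (fun h0 => hbQ (Ideal.Quotient.eq_zero_iff_mem.1 h0)) hbP
      obtain ⟨x, rfl⟩ := hρB d
      exact ⟨Ideal.Quotient.mk Q x, rfl⟩
    obtain ⟨u, hu⟩ := exists_basis_fin (k := k) (D := B ⧸ Q)
    have hπ : Function.Surjective ((Ideal.Quotient.mk Q).comp (Ideal.Quotient.mk (RingHom.ker aF))) :=
      Ideal.Quotient.mk_surjective.comp Ideal.Quotient.mk_surjective
    choose u' hu' using fun j => hπ (u j)
    have h2 := algIndep_lift (K := K) hr aF haF ((Ideal.Quotient.mk Q).comp (Ideal.Quotient.mk (RingHom.ker aF)))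
      (fun v => (hrQ v).symm) (fun x hx' => by
        rw [RingHom.comp_apply, (Ideal.Quotient.eq_zero_iff_mem (I := RingHom.ker aF)).2 hx', map_zero])
      (t := u') (by rw [funext hu']; exact hu)
    have h3 := h2.lift_cardinalMk_le_trdeg
    rw [hm] at h3
    simp at h3
    omega
  obtain ⟨f, hfP, hf⟩ := exists_open_lifts (K := K) r hr hinj P hPV hmin
  obtain ⟨f₀, rfl⟩ := Ideal.Quotient.mk_surjective f
  refine ⟨H'.left.basicOpen (ρ f₀), ?_, fun x hxW => ?_⟩
  · refine ⟨⟨genericPoint H'.left, (Scheme.mem_basicOpen _ _ _ (show genericPoint H'.left ∈ U' from hxU)).2 ?_⟩⟩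
    exact isUnit_iff_ne_zero.2 fun h0 => hfP (hginj (h0.trans (map_zero _).symm))
  -- the point as a homomorphism on the chart
  have hptHom : ∀ (L : Type u) [Field L], (VecGrp.pt L L).hom = 𝟙 _ := fun L _ => by
    show Spec.map (CommRingCat.ofHom (algebraMap L L)) = 𝟙 _
    rw [show CommRingCat.ofHom (algebraMap L L) = 𝟙 _ from rfl, Spec.map_id]
  have hxU' : Set.range x.left ⊆ U' := by
    rw [range_left_pt, Set.singleton_subset_iff]
    exact H'.left.basicOpen_le (ρ f₀) hxW
  obtain ⟨gU, hgU⟩ : ∃ gU : Spec (CommRingCat.of k) ⟶ Spec Γ(H'.left, U'), gU ≫ hU'.fromSpec = x.left :=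
    ⟨IsOpenImmersion.lift hU'.fromSpec x.left (hU'.range_fromSpec.symm ▸ hxU'), IsOpenImmersion.lift_fac _ _ _⟩
  obtain ⟨χ', rfl⟩ := Spec.map_surjective gU
  have hSU : Spec.map (CommRingCat.ofHom (algebraMap V Γ(G.left, U))) = hU.fromSpec ≫ G.hom := by
    rw [RingHom.algebraMap_toAlgebra, CommRingCat.ofHom_hom, Spec.map_comp,
      ← IsAffineOpen.SpecMap_appLE_fromSpec G.hom (isAffineOpen_top _) hU (by simp),
      IsAffineOpen.fromSpec_top, InvRing21.isoSpec_inv_spec]
    rfl
  have hρfrom : Spec.map ((gE i').app U) ≫ hU.fromSpec = hU'.fromSpec ≫ gE i' := by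
    rw [Scheme.Hom.app_eq_appLE]
    exact IsAffineOpen.SpecMap_appLE_fromSpec (gE i') hU hU' le_rfl
  let χ₀ := (gE i').app U ≫ χ'
  have hg : Spec.map χ₀ ≫ hU.fromSpec = x.left ≫ gE i' := by
    rw [Spec.map_comp, Category.assoc, hρfrom, ← Category.assoc, hgU]
  have hwE : gE i' ≫ G.hom = H'.hom ≫ Spec.map (CommRingCat.ofHom r) := by
    rw [Category.assoc, pullback.condition, ← Category.assoc]
    exact congrArg (· ≫ Spec.map (CommRingCat.ofHom r)) (Over.w i')
  have hχr : CommRingCat.ofHom (algebraMap V Γ(G.left, U)) ≫ χ₀ = CommRingCat.ofHom r := by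
    refine Spec.map_injective ?_
    rw [Spec.map_comp, hSU, ← Category.assoc, hg, Category.assoc, hwE, ← Category.assoc, Over.w x, hptHom]
    exact Category.id_comp _
  let χB : B →+* k := Ideal.Quotient.lift (RingHom.ker aF) χ₀.hom fun y hy => by
    show χ'.hom (ρ y) = 0
    rw [hker y hy, map_zero]
  have hχf : χB (Ideal.Quotient.mk (RingHom.ker aF) f₀) ≠ 0 := by
    intro h0
    have hp : (Spec.map χ') (IsLocalRing.closedPoint k) ∈ hU'.fromSpec ⁻¹ᵁ (H'.left.basicOpen (ρ f₀)) := by
      show hU'.fromSpec ((Spec.map χ') (IsLocalRing.closedPoint k)) ∈ H'.left.basicOpen (ρ f₀)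
      rw [← Scheme.Hom.comp_apply, hgU]
      exact hxW
    rw [hU'.fromSpec_preimage_basicOpen] at hp
    refine hp ?_
    show χ'.hom (ρ f₀) ∈ IsLocalRing.maximalIdeal k
    rw [show χ'.hom (ρ f₀) = 0 from h0]
    exact zero_mem _
  obtain ⟨s, hs, hrs⟩ := hf χB (fun v => ConcreteCategory.congr_hom hχr v) hχf
  let sA : Γ(G.left, U) →+* V := s.comp (Ideal.Quotient.mk (RingHom.ker aF))
  let sG : 𝟙_ (Over (Spec (CommRingCat.of V))) ⟶ G :=
    Over.homMk (Spec.map (CommRingCat.ofHom sA) ≫ hU.fromSpec) (by
      rw [Category.assoc, ← hSU, ← Spec.map_comp,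
        show CommRingCat.ofHom (algebraMap V Γ(G.left, U)) ≫ CommRingCat.ofHom sA = 𝟙 _ from
          CommRingCat.hom_ext (RingHom.ext hs), Spec.map_id]
      rfl)
  have hsg : ∀ (L : Type u) [Field L] (f : V →+* L),
      ((bcPts (Spec.map (CommRingCat.ofHom f)) (VecGrp.pt L L)) (toUnit _ ≫ sG)).left ≫
        pullback.fst G.hom (Spec.map (CommRingCat.ofHom f)) =
        Spec.map (CommRingCat.ofHom (f.comp sA)) ≫ hU.fromSpec := fun L _ f => by
    rw [← bcPts_symm_left, MulEquiv.symm_apply_apply, Over.comp_left]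
    show ((VecGrp.pt L L).hom ≫ Spec.map (CommRingCat.ofHom f)) ≫ Spec.map (CommRingCat.ofHom sA) ≫ hU.fromSpec = _
    rw [hptHom, Category.id_comp, ← Category.assoc, ← Spec.map_comp]
    rfl
  -- the generic value
  set y := bcPts (Spec.map (CommRingCat.ofHom (algebraMap V K))) (VecGrp.pt K K) (toUnit _ ≫ sG) with hy
  haveI : IsPreimmersion (Spec.map (CommRingCat.ofHom (algebraMap V K))) :=
    IsPreimmersion.of_isLocalization (nonZeroDivisors V)
  have hη : gF i (genericPoint H.left) = hU.fromSpec ((Spec.map (CommRingCat.ofHom aF)) (IsLocalRing.closedPoint _)) := by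
    have h1 : Spec.map (CommRingCat.ofHom aF) ≫ hU.fromSpec =
        H.left.fromSpecStalk (genericPoint H.left) ≫ gF i := by
      rw [show CommRingCat.ofHom aF = G.left.presheaf.germ U (xi i') hxU ≫
        stalkHom (gF i) (genericPoint H.left) (specializes_of_range i i' hx _) from rfl, Spec.map_comp,
        Category.assoc]
      rw [show Spec.map (G.left.presheaf.germ U (xi i') hxU) ≫ hU.fromSpec = G.left.fromSpecStalk (xi i') from
        hU.fromSpecStalk_eq_fromSpecStalk hxU]
      exact stalkHom_spec _ _ _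
    have h2 := congrArg (fun q => q (IsLocalRing.closedPoint H.left.functionField)) h1
    refine Eq.trans ?_ h2.symm
    exact (congrArg (gF i) Scheme.fromSpecStalk_closedPoint).symm
  have hyr : Set.range y.left ⊆ Set.range i.left := by
    rintro _ ⟨z, rfl⟩
    have h1 : pullback.fst G.hom (Spec.map (CommRingCat.ofHom (algebraMap V K))) (y.left z) ∈
        closure (genSet G i) ∩ G.hom ⁻¹' {p0 (V := V) (K := K)} := by
      refine ⟨?_, ?_⟩
      · have hmem : gF i (genericPoint H.left) ∈ genSet G i :=
          ⟨i.left (genericPoint H.left), ⟨genericPoint H.left, rfl⟩, (Scheme.Hom.comp_apply _ _ _).symm⟩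
        have hsub : closure {gF i (genericPoint H.left)} ⊆ closure (genSet G i) :=
          closure_mono (Set.singleton_subset_iff.2 hmem)
        refine hsub (specializes_iff_mem_closure.1 ?_)
        rw [hη, show pullback.fst G.hom (Spec.map (CommRingCat.ofHom (algebraMap V K))) (y.left z) =
          hU.fromSpec ((Spec.map (CommRingCat.ofHom ((algebraMap V K).comp sA))) z) from
            congrArg (fun q => q z) (hsg K (algebraMap V K))]
        refine Specializes.map ?_ hU.fromSpec.continuous
        rw [Subsingleton.elim (α := PrimeSpectrum K) z (IsLocalRing.closedPoint K)]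
        refine (PrimeSpectrum.le_iff_specializes _ _).1 fun b hb => ?_
        show algebraMap V K (sA b) ∈ IsLocalRing.maximalIdeal K
        have hb0 : aF b = 0 := by
          have := (show aF b ∈ IsLocalRing.maximalIdeal H.left.functionField from hb)
          rwa [IsLocalRing.maximalIdeal_eq_bot, Ideal.mem_bot] at this
        rw [show sA b = s (Ideal.Quotient.mk _ b) from rfl, (Ideal.Quotient.eq_zero_iff_mem (I := RingHom.ker aF)).2 hb0,
          map_zero, map_zero]
        exact zero_mem _
      · rw [Set.mem_preimage, ← Scheme.Hom.comp_apply, pullback.condition, Scheme.Hom.comp_apply, ← range_gen]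
        exact ⟨_, rfl⟩
    rw [closure_inter] at h1
    obtain ⟨w, hw, hwe⟩ := h1
    exact (pullback.fst G.hom (Spec.map (CommRingCat.ofHom (algebraMap V K)))).isEmbedding.injective hwe ▸ hw
  haveI : IsReduced (VecGrp.pt K K).left := inferInstanceAs (IsReduced (Spec (CommRingCat.of K)))
  obtain ⟨l, hl⟩ := RedSepLib.exists_lift_of_range_subset y.left i.left hyr
  refine ⟨sG, Over.homMk l (by rw [← Over.w i, reassoc_of% hl, Over.w y]), Over.OverMorphism.ext hl, ?_⟩
  refine (bcPts (Spec.map (CommRingCat.ofHom r)) (VecGrp.pt k k)).symm.injective (Over.OverMorphism.ext ?_)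
  rw [bcPts_symm_left, bcPts_symm_left, hsg k r, Over.comp_left, Category.assoc, ← hg]
  congr 2
  refine CommRingCat.hom_ext (RingHom.ext fun b => ?_)
  exact (RingHom.congr_fun hrs (Ideal.Quotient.mk _ b)).symm

omit [GrpObj H'] [IsMonHom i'] [IsClosedImmersion i'.left] [IsIntegral H'.left] [LocallyOfFiniteType H'.hom] in
theorem lTr_comp_lTr {X : Over (Spec (CommRingCat.of k))} [GrpObj X] (a b : VecGrp.pt k k ⟶ X) :
    lTr a ≫ lTr b = lTr (b * a) := by
  rw [comp_lTr]
  show (toPt X ≫ b) * lTr a = (toPt X ≫ (b * a)) * 𝟙 X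
  rw [lTr, MonObj.comp_mul, _root_.mul_assoc]

omit [GrpObj H'] [IsMonHom i'] [IsClosedImmersion i'.left] [IsIntegral H'.left] [LocallyOfFiniteType H'.hom] in
theorem lTr_one {L : Type u} [Field L] {X : Over (Spec (CommRingCat.of L))} [GrpObj X] :
    lTr (1 : VecGrp.pt L L ⟶ X) = 𝟙 X := by
  rw [lTr, MonObj.comp_one, _root_.one_mul]

/-- All rational points of the special subgroup lift. -/
theorem all_liftable (hr : Function.Surjective r) (hx : Set.range (gE i') ⊆ closure (genSet G i))
    (hd : topologicalKrullDim H.left ≤ topologicalKrullDim H'.left) (x : VecGrp.pt k k ⟶ H') :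
    Liftable i i' x := by
  obtain ⟨-, W, hne, hW⟩ := setup_and_lift hr hx hd
  -- the map `z ↦ z⁻¹ * x`
  let m : H' ⟶ H' := (𝟙 H')⁻¹ * (toPt H' ≫ x)
  have hm : ∀ z : VecGrp.pt k k ⟶ H', z ≫ m = z⁻¹ * x := fun z => by
    rw [MonObj.comp_mul, GrpObj.comp_inv, Category.comp_id, ← Category.assoc, comp_toPt, toPt_pt, Category.id_comp]
  have himg : ∀ z : VecGrp.pt k k ⟶ H', img (z⁻¹ * x) = m.left (img z) := fun z => by
    rw [← hm]; rfl
  obtain ⟨w, hw⟩ := BorelFix21.exists_pt_mem (Z := (W : Set H'.left)) W.2.isLocallyClosed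
    (by obtain ⟨z⟩ := hne; exact ⟨z.1, z.2⟩)
  have h2 : (m.left ⁻¹' (W : Set H'.left)).Nonempty := ⟨img (x * w⁻¹), by
    rw [Set.mem_preimage, ← himg, mul_inv_rev, inv_inv, _root_.mul_assoc, inv_mul_cancel, _root_.mul_one]
    exact hw⟩
  have h3 := nonempty_preirreducible_inter W.2 (W.2.preimage m.left.continuous) ⟨_, hw⟩ h2
  obtain ⟨z, hz1, hz2⟩ := BorelFix21.exists_pt_mem (W.2.inter (W.2.preimage m.left.continuous)).isLocallyClosed h3
  rw [Set.mem_preimage, ← himg] at hz2
  have := (hW z hz1).mul (hW _ hz2)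
  rwa [mul_inv_cancel_left] at this

end Groth.Agent.SpecAff15
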