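import Groth.Agent.Lib.TorPts21.Luna
import Mathlib.LinearAlgebra.Matrix.Block

/-!
# Translations by points of a connected group without subtori are locally unipotent
-/

set_option autoImplicit false
set_option linter.style.haveILetI false
set_option backward.isDefEq.respectTransparency.types false
universe u

open CategoryTheory Limits MonoidalCategory CartesianMonoidalCategory MonObj AlgebraicGeometry

noncomputable section

namespace Groth.Agent.SpecAff15

open MatGrp21 InvRing21 TorPts21
open scoped Matrix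

attribute [local instance] InvRing21.gamAlg BorelFix21.ptsTop

section iterate

variable {R : Type*} [CommRing R] (σ : R →+* R)

theorem delta_iterate_add (n : ℕ) (x y : R) :
    (fun z => σ z - z)^[n] (x + y) = (fun z => σ z - z)^[n] x + (fun z => σ z - z)^[n] y := by
  induction n generalizing x y with
  | zero => rfl
  | succ n ih =>
    rw [Function.iterate_succ_apply, Function.iterate_succ_apply, Function.iterate_succ_apply, ← ih]
    congr 1
    simp only [map_add]
    ring

theorem delta_iterate_le {a b : ℕ} (h : a ≤ b) {x : R} (hx : (fun z => σ z - z)^[a] x = 0) :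
    (fun z => σ z - z)^[b] x = 0 := by
  rw [← Nat.sub_add_cancel h, Function.iterate_add_apply, hx]
  exact Function.iterate_fixed (by simp) _

theorem delta_iterate_comm (n : ℕ) (x : R) :
    (fun z => σ z - z)^[n] (σ x) = σ ((fun z => σ z - z)^[n] x) := by
  refine (Function.Commute.iterate_left (fun z => ?_) n).eq x
  show σ (σ z) - σ z = σ (σ z - z)
  rw [map_sub]

theorem delta_iterate_mul : ∀ (n a b : ℕ) (x y : R), a + b = n → (fun z => σ z - z)^[a] x = 0 →
    (fun z => σ z - z)^[b] y = 0 → (fun z => σ z - z)^[n] (x * y) = 0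
  | n, 0, b, x, y, _, hx, _ => by
    rw [show x = 0 from hx, zero_mul]
    exact Function.iterate_fixed (by simp) _
  | n, a + 1, 0, x, y, _, _, hy => by
    rw [show y = 0 from hy, mul_zero]
    exact Function.iterate_fixed (by simp) _
  | 0, a + 1, b + 1, x, y, h, _, _ => by omega
  | n + 1, a + 1, b + 1, x, y, h, hx, hy => by
    rw [Function.iterate_succ_apply]
    rw [show σ (x * y) - x * y = (σ x - x) * σ y + x * (σ y - y) by rw [map_mul]; ring, delta_iterate_add]
    rw [delta_iterate_mul n a (b + 1) (σ x - x) (σ y) (by omega) (by rwa [Function.iterate_succ_apply] at hx)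
        (by rw [delta_iterate_comm, hy, map_zero]),
      delta_iterate_mul n (a + 1) b x (σ y - y) (by omega) hx (by rwa [Function.iterate_succ_apply] at hy),
      add_zero]

/-- The elements killed by a power of `σ - 1`. -/
def unipSubring : Subring R where
  carrier := {x | ∃ D, (fun z => σ z - z)^[D] x = 0}
  zero_mem' := ⟨0, rfl⟩
  one_mem' := ⟨1, by simp⟩
  add_mem' := by
    rintro x y ⟨a, ha⟩ ⟨b, hb⟩
    exact ⟨max a b, by
      rw [delta_iterate_add, delta_iterate_le σ (le_max_left a b) ha, delta_iterate_le σ (le_max_right a b) hb,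
        add_zero]⟩
  neg_mem' := by
    rintro x ⟨a, ha⟩
    refine ⟨a, ?_⟩
    have h := delta_iterate_add σ a x (-x)
    rw [add_neg_cancel, ha, zero_add] at h
    rw [← h]
    exact Function.iterate_fixed (by simp) _
  mul_mem' := by
    rintro x y ⟨a, ha⟩ ⟨b, hb⟩
    exact ⟨a + b, delta_iterate_mul σ _ a b x y rfl ha hb⟩

end iterate

variable {k : Type u} [Field k] [IsAlgClosed k]

set_option maxHeartbeats 1000000 in
/-- Left translations act locally unipotently on the functions. -/
theorem exists_delta_eq_zero {H : Over (Spec (CommRingCat.of k))} [GrpObj H] [IsAffine H.left] [Smooth H.hom]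
    [ConnectedSpace H.left] (hH : Red.HasNoSubtorus k H) (c : VecGrp.pt k k ⟶ H) (F : Γ(H.left, ⊤)) :
    ∃ D, (fun z => (lTr c).left.appTop z - z)^[D] F = 0 := by
  classical
  obtain ⟨n, r, hr, hrc, hu⟩ := exists_upper_embedding (𝟙 H) (isSolvableGrp_of_hasNoSubtorus H hH)
  haveI := hr
  haveI := hrc
  have hl := range_le_lay_of_hasNoSubtorus r (fun g hg => hu (by simpa using hg)) hH
  let σ : Γ(H.left, ⊤) →+* Γ(H.left, ⊤) := (lTr c).left.appTop.hom
  let L : CoordGrp.GLn n k →+* Γ(H.left, ⊤) :=
    (r.left.appTop.hom).comp (Scheme.ΓSpecIso (CommRingCat.of (CoordGrp.GLn n k))).inv.hom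
  have hval : ∀ (x : VecGrp.pt k k ⟶ H) (a : CoordGrp.GLn n k), val x (L a) = evalGL (mtx r x) a :=
    fun x a => val_eq_evalGL r x a
  suffices h : ∀ a, L a ∈ unipSubring σ by
    obtain ⟨a, ha⟩ := exists_eq_appTop r F
    obtain ⟨D, hD⟩ := h a
    exact ⟨D, ha ▸ hD⟩
  intro a
  obtain ⟨b, rfl⟩ := Ideal.Quotient.mk_surjective a
  let q : MvPolynomial (CoordGrp.GLPoly.Idx n) k := b
  show L (Ideal.Quotient.mk _ (q : CoordGrp.GLb n k)) ∈ _
  induction q using MvPolynomial.induction_on with
  | C e =>
    refine ⟨1, ?_⟩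
    show σ _ - _ = 0
    rw [sub_eq_zero]
    refine ext_val fun x => ?_
    show val x ((lTr c).left.appTop _) = _
    rw [val_lTr, hval, hval]
    exact ((evalGL _).commutes e).trans ((evalGL _).commutes e).symm
  | add p p' hp hp' =>
    rw [show L (Ideal.Quotient.mk _ ((p + p' : MvPolynomial (CoordGrp.GLPoly.Idx n) k) : CoordGrp.GLb n k)) =
      L (Ideal.Quotient.mk _ (p : CoordGrp.GLb n k)) + L (Ideal.Quotient.mk _ (p' : CoordGrp.GLb n k)) from
        (congrArg L (map_add (Ideal.Quotient.mk (CoordGrp.GLb.relIdeal n k)) _ _)).trans (map_add _ _ _)]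
    exact add_mem hp hp'
  | mul_X p s hp =>
    rw [show L (Ideal.Quotient.mk _ ((p * MvPolynomial.X s : MvPolynomial (CoordGrp.GLPoly.Idx n) k) :
        CoordGrp.GLb n k)) = L (Ideal.Quotient.mk _ (p : CoordGrp.GLb n k)) *
          L (Ideal.Quotient.mk _ (MvPolynomial.X s : MvPolynomial (CoordGrp.GLPoly.Idx n) k)) from
        (congrArg L (map_mul (Ideal.Quotient.mk (CoordGrp.GLb.relIdeal n k)) _ _)).trans (map_mul _ _ _)]
    refine mul_mem hp ?_
    rcases s with ⟨i, j⟩ | ⟨⟩
    · let C : Matrix (Fin n) (Fin n) k := (mtx r c : Matrix (Fin n) (Fin n) k)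
      have hC : (C - 1) ^ n = 0 := isUnip_of_mem_lay (hl ⟨c, rfl⟩)
      let fv : (Fin n → k) → Γ(H.left, ⊤) := fun v => ∑ l, v l • L (CoordGrp.GLn.X l j)
      have hfv : ∀ v x, val x (fv v) = (v ᵥ* (mtx r x : Matrix (Fin n) (Fin n) k)) j := fun v x => by
        simp only [fv, map_sum, map_smul, smul_eq_mul, hval, Matrix.vecMul, dotProduct]
        refine Finset.sum_congr rfl fun l _ => ?_
        exact congrArg (v l * ·) (CoordGrp.GLn.pt_X _ _ _ _ _)
      have hstep : ∀ v, σ (fv v) - fv v = fv (v ᵥ* (C - 1)) := fun v => by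
        refine ext_val fun x => ?_
        rw [map_sub]
        show val x ((lTr c).left.appTop _) - _ = _
        rw [val_lTr, hfv, hfv, hfv, map_mul, Units.val_mul, Matrix.vecMul_vecMul, Matrix.sub_mul,
          Matrix.one_mul, Matrix.vecMul_sub, Pi.sub_apply]
      have hiter : ∀ m v, (fun z => σ z - z)^[m] (fv v) = fv (v ᵥ* (C - 1) ^ m) := fun m => by
        induction m with
        | zero => exact fun v => by simp
        | succ m ih =>
          intro v
          rw [Function.iterate_succ_apply, hstep, ih, Matrix.vecMul_vecMul, pow_succ']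
      refine ⟨n, ?_⟩
      have e : L (CoordGrp.GLn.X i j) = fv (Pi.single i 1) := by
        simp only [fv, Pi.single_apply, ite_smul, one_smul, zero_smul, Finset.sum_ite_eq', Finset.mem_univ,
          if_true]
      show (fun z => σ z - z)^[n] (L (CoordGrp.GLn.X i j)) = 0
      rw [e, hiter, hC, Matrix.vecMul_zero]
      simp [fv]
    · have hD : L (CoordGrp.GLn.Dinv) = 1 := by
        refine ext_val fun x => ?_
        rw [hval, map_one]
        refine (CoordGrp.GLn.pt_Dinv _ _ _).trans ?_
        obtain ⟨hup, hd⟩ := mem_lay_one_iff.1 (hl ⟨x, rfl⟩)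
        rw [Matrix.det_of_upperTriangular (fun a b (hab : b < a) => hup a b (by simpa using hab))]
        simp [hd]
      show L (CoordGrp.GLn.Dinv) ∈ _
      rw [hD]
      exact one_mem _

end Groth.Agent.SpecAff15
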