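import Groth.Agent.Lib.SpecAff15.Alg
import Groth.Agent.Lib.SpecAff15.Lift
import Groth.Agent.Lib.SpecAff15.Fun
import Groth.Agent.Lib.SpecAff15.Unip
import Groth.Agent.Lib.SubSpec19.Core

/-!
# Specialised subgroups: the valuation theoretic setting, and lifting of rational points
-/

set_option autoImplicit false
set_option linter.style.haveILetI false
set_option backward.isDefEq.respectTransparency false
set_option backward.isDefEq.respectTransparency.types false
set_option maxSynthPendingDepth 3
universe u

open CategoryTheory CategoryTheory.Limits MonoidalCategory CartesianMonoidalCategory MonObj AlgebraicGeometry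

noncomputable section

namespace Groth.Agent.SpecAff15

open SubSpec19 InvRing21

attribute [local instance] funAlg

/-- Left translation by a section. -/
def trS {S : Scheme.{u}} {G : Over S} [GrpObj G] (s : 𝟙_ (Over S) ⟶ G) : G ⟶ G := (toUnit G ≫ s) * 𝟙 G

/-- Translations by a section and by the induced point of a subgroup commute. -/
theorem trans_comm {S : Scheme.{u}} {k : Type u} [Field k] (f : Spec (CommRingCat.of k) ⟶ S) {G : Over S} [GrpObj G]
    {X : Over (Spec (CommRingCat.of k))} [GrpObj X] (j : X ⟶ Red.bc f G) [IsMonHom j]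
    (s : 𝟙_ (Over S) ⟶ G) (c : VecGrp.pt k k ⟶ X)
    (hc : c ≫ j = bcPts f (VecGrp.pt k k) (toUnit _ ≫ s)) :
    (lTr c).left ≫ j.left ≫ pullback.fst G.hom f = (j.left ≫ pullback.fst G.hom f) ≫ (trS s).left := by
  rw [← bcPts_symm_left, ← Over.comp_left,
    show (lTr c).left = ((Over.map f).map (lTr c)).left from rfl, ← Over.comp_left, ← bcPts_symm_comp]
  congr 1
  rw [trS, MonObj.comp_mul, Category.comp_id, ← Category.assoc, comp_toUnit, lTr, MonObj.mul_comp,
    Category.id_comp, Category.assoc, hc, map_mul, bcPts_symm_comp, MulEquiv.symm_apply_apply,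
    ← Category.assoc, comp_toUnit]

variable {V : Type u} [CommRing V] [IsDomain V] [ValuationRing V]
  {K : Type u} [Field K] [IsAlgClosed K] [Algebra V K] [IsFractionRing V K]
  {k : Type u} [Field k] [IsAlgClosed k] {r : V →+* k}
  {G : Over (Spec (CommRingCat.of V))} [GrpObj G]
  {H : Over (Spec (CommRingCat.of K))} [GrpObj H] (i : H ⟶ Red.bc (Spec.map (CommRingCat.ofHom (algebraMap V K))) G)
  {H' : Over (Spec (CommRingCat.of k))} [GrpObj H'] (i' : H' ⟶ Red.bc (Spec.map (CommRingCat.ofHom r)) G)
  [IsIntegral H.left] [IsIntegral H'.left]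

/-- The map of the generic subgroup into the group. -/
abbrev gF : H.left ⟶ G.left := i.left ≫ pullback.fst G.hom (Spec.map (CommRingCat.ofHom (algebraMap V K)))

/-- The map of the special subgroup into the group. -/
abbrev gE : H'.left ⟶ G.left := i'.left ≫ pullback.fst G.hom (Spec.map (CommRingCat.ofHom r))

/-- The generic point of the special subgroup in the group. -/
abbrev xi : G.left := gE i' (genericPoint H'.left)

omit [IsIntegral H'.left] [GrpObj H] [GrpObj H'] [IsAlgClosed k] [IsAlgClosed K] [IsFractionRing V K]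
  [ValuationRing V] [IsDomain V] [GrpObj G] in
theorem specializes_of_range (hx : Set.range (gE i') ⊆ closure (genSet G i)) (y : H'.left) :
    gF i (genericPoint H.left) ⤳ gE i' y := by
  have h1 : genSet G i ⊆ closure {gF i (genericPoint H.left)} := by
    rintro _ ⟨_, ⟨z, rfl⟩, rfl⟩
    rw [← specializes_iff_mem_closure]
    exact (genericPoint_specializes z).map (gF i).continuous
  rw [specializes_iff_mem_closure]
  exact closure_minimal h1 isClosed_closure (hx ⟨y, rfl⟩)

/-- The base ring in the local ring. -/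
def cHom : V →+* G.left.presheaf.stalk (xi i') := (baseHom G.hom (xi i')).hom

variable {i i'} in
/-- The map to the function field of the generic subgroup. -/
def phi (hx : Set.range (gE i') ⊆ closure (genSet G i)) :
    G.left.presheaf.stalk (xi i') →+* H.left.functionField :=
  (stalkHom (gF i) (genericPoint H.left) (specializes_of_range i i' hx _)).hom

/-- The map to the function field of the special subgroup. -/
def psi : G.left.presheaf.stalk (xi i') →+* H'.left.functionField :=
  (stalkHom (gE i') (genericPoint H'.left) (x := xi i') specializes_rfl).hom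

variable {i i'}

omit [GrpObj H] [GrpObj H'] [IsAlgClosed k] [IsAlgClosed K] [IsFractionRing V K] [ValuationRing V] [IsDomain V]
  [GrpObj G] in
theorem phi_cHom (hx : Set.range (gE i') ⊆ closure (genSet G i)) (v : V) :
    phi hx (cHom i' v) = algebraMap K H.left.functionField (algebraMap V K v) := by
  have w : gF i ≫ G.hom = H.hom ≫ Spec.map (CommRingCat.ofHom (algebraMap V K)) := by
    rw [Category.assoc, pullback.condition, ← Category.assoc]
    exact congrArg (· ≫ Spec.map (CommRingCat.ofHom (algebraMap V K))) (Over.w i)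
  have h := baseHom_comp (gF i) G.hom H.hom (CommRingCat.ofHom (algebraMap V K)) w (genericPoint H.left)
    (specializes_of_range i i' hx (genericPoint H'.left))
  have h' := congrArg (fun q => q.hom v) h
  simpa only [CommRingCat.hom_comp, RingHom.comp_apply] using! h'

omit [GrpObj H'] [IsAlgClosed k] [GrpObj G] [IsDomain V] [ValuationRing V] in
theorem psi_cHom (v : V) : psi i' (cHom i' v) = algebraMap k H'.left.functionField (r v) := by
  have w : gE i' ≫ G.hom = H'.hom ≫ Spec.map (CommRingCat.ofHom r) := by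
    rw [Category.assoc, pullback.condition, ← Category.assoc]
    exact congrArg (· ≫ Spec.map (CommRingCat.ofHom r)) (Over.w i')
  have h := baseHom_comp (gE i') G.hom H'.hom (CommRingCat.ofHom r) w (genericPoint H'.left)
    (x := xi i') (specializes_refl _)
  have h' := congrArg (fun q => q.hom v) h
  simpa only [CommRingCat.hom_comp, RingHom.comp_apply] using! h'

omit [GrpObj H] [GrpObj H'] [IsAlgClosed k] [IsAlgClosed K] [GrpObj G] in
/-- Independent residues have independent lifts. -/
theorem algIndep_lift (hr : Function.Surjective r) {F : Type u} [Field F] [Algebra K F] {A : Type u} [CommRing A]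
    [Algebra V A] (aF : A →+* F) (haF : ∀ v, aF (algebraMap V A v) = algebraMap K F (algebraMap V K v))
    {D : Type u} [CommRing D] [Algebra k D] (ρ : A →+* D) (hρ : ∀ v, ρ (algebraMap V A v) = algebraMap k D (r v))
    (hker : ∀ a, aF a = 0 → ρ a = 0) {J : Type*} {t : J → A} (ht : AlgebraicIndependent k (fun j => ρ (t j))) :
    AlgebraicIndependent K (fun j => aF (t j)) := by
  classical
  rw [algebraicIndependent_iff]
  intro P hP
  by_contra hne
  obtain ⟨m₁, hm₁⟩ := MvPolynomial.support_nonempty.2 hne
  obtain ⟨m₀, hm₀, hc0, hv⟩ := exists_scale_ne (V := V) P.support (fun m => P.coeff m)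
    ⟨m₁, hm₁, MvPolynomial.mem_support_iff.1 hm₁⟩
  choose! v hv using hv
  let Q : MvPolynomial J V := ∑ m ∈ P.support, MvPolynomial.monomial m (if m = m₀ then 1 else v m)
  have hQ : MvPolynomial.C (P.coeff m₀) * MvPolynomial.map (algebraMap V K) Q = P := by
    conv_rhs => rw [P.as_sum]
    rw [map_sum, Finset.mul_sum]
    refine Finset.sum_congr rfl fun m hm => ?_
    rw [MvPolynomial.map_monomial, MvPolynomial.C_mul_monomial]
    congr 1
    split_ifs with hmm
    · rw [map_one, _root_.mul_one, hmm]
    · rw [_root_.mul_comm]; exact hv m hm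
  rw [← hQ, map_mul, MvPolynomial.aeval_C, mul_eq_zero, map_eq_zero] at hP
  have hP' := hP.resolve_left hc0
  rw [MvPolynomial.aeval_def, MvPolynomial.eval₂_map,
    show (algebraMap K F).comp (algebraMap V K) = aF.comp (algebraMap V A) from RingHom.ext fun v => (haF v).symm]
    at hP'
  have h0 : ρ (MvPolynomial.eval₂ (algebraMap V A) t Q) = 0 :=
    hker _ ((MvPolynomial.eval₂_comp_left aF _ _ _).trans hP')
  rw [MvPolynomial.eval₂_comp_left ρ,
    show ρ.comp (algebraMap V A) = (algebraMap k D).comp r from RingHom.ext hρ, ← MvPolynomial.eval₂_map] at h0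
  have h2 : MvPolynomial.map r Q = 0 := ht (by rw [map_zero]; exact h0)
  have h3 := congrArg (MvPolynomial.coeff m₀) h2
  rw [MvPolynomial.coeff_map, MvPolynomial.coeff_zero] at h3
  simp [Q, MvPolynomial.coeff_sum, MvPolynomial.coeff_monomial, MvPolynomial.mem_support_iff.1 hm₀] at h3

/-- A transcendence basis indexed by the transcendence degree. -/
theorem exists_basis_fin {D : Type u} [CommRing D] [IsDomain D] [Algebra k D] [Algebra.FiniteType k D] :
    ∃ t : Fin (VarDim.tdeg k D) → D, AlgebraicIndependent k t := by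
  haveI : FaithfulSMul k D := (faithfulSMul_iff_algebraMap_injective _ _).2 (algebraMap k D).injective
  obtain ⟨s, hs⟩ := exists_isTranscendenceBasis k D
  have hcard : Cardinal.mk s = (VarDim.tdeg k D : Cardinal) := by
    rw [hs.cardinalMk_eq_trdeg, VarDim.trdeg_eq_tdeg k D]
  obtain ⟨e⟩ : Nonempty (ULift.{u} (Fin (VarDim.tdeg k D)) ≃ s) := by
    rw [← Cardinal.eq, hcard]; simp
  exact ⟨fun j => (e ⟨j⟩ : D), hs.1.comp (fun j => e ⟨j⟩) (e.injective.comp ULift.up_injective)⟩

omit [IsAlgClosed k] in
theorem tdeg_lt {A D : Type u} [CommRing A] [IsDomain A] [Algebra k A] [Algebra.FiniteType k A] [CommRing D]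
    [IsDomain D] [Algebra k D] [Algebra.FiniteType k D] (f : A →+* D) (hf : Function.Surjective f)
    (a : A) (ha : a ≠ 0) (hfa : f a = 0) : VarDim.tdeg k D < VarDim.tdeg k A := by
  have h1 := ringKrullDim_quotient_succ_le_of_nonZeroDivisor (r := a) (mem_nonZeroDivisors_of_ne_zero ha)
  have h2 : ringKrullDim D ≤ ringKrullDim (A ⧸ Ideal.span {a}) := ringKrullDim_le_of_surjective
    (Ideal.Quotient.lift (Ideal.span {a}) f fun x hx => by
      obtain ⟨y, rfl⟩ := Ideal.mem_span_singleton'.1 hx
      rw [map_mul, hfa, mul_zero]) fun d => by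
    obtain ⟨x, rfl⟩ := hf d
    exact ⟨Ideal.Quotient.mk _ x, rfl⟩
  rw [VarDim.ringKrullDim_eq_tdeg k A] at h1
  rw [VarDim.ringKrullDim_eq_tdeg k D] at h2
  have h3 := (add_le_add_left h2 1).trans h1
  have : VarDim.tdeg k D + 1 ≤ VarDim.tdeg k A := by exact_mod_cast h3
  omega

/-- A rational point of the special subgroup lifting to a section with generic value in the subgroup. -/
def Liftable (i : H ⟶ Red.bc (Spec.map (CommRingCat.ofHom (algebraMap V K))) G)
    (i' : H' ⟶ Red.bc (Spec.map (CommRingCat.ofHom r)) G) (x : VecGrp.pt k k ⟶ H') : Prop :=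
  ∃ (s : 𝟙_ (Over (Spec (CommRingCat.of V))) ⟶ G) (c : VecGrp.pt K K ⟶ H),
    c ≫ i = bcPts _ (VecGrp.pt K K) (toUnit _ ≫ s) ∧ x ≫ i' = bcPts _ (VecGrp.pt k k) (toUnit _ ≫ s)

omit [IsAlgClosed k] [IsAlgClosed K] [IsFractionRing V K] [ValuationRing V] [IsDomain V] [IsIntegral H.left]
  [IsIntegral H'.left] in
theorem Liftable.mul [IsMonHom i] [IsMonHom i'] {x y : VecGrp.pt k k ⟶ H'} (hx : Liftable i i' x)
    (hy : Liftable i i' y) : Liftable i i' (x * y) := by
  obtain ⟨s, c, h1, h2⟩ := hx
  obtain ⟨s', c', h1', h2'⟩ := hy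
  exact ⟨s * s', c * c', by rw [MonObj.mul_comp, h1, h1', MonObj.comp_mul, map_mul],
    by rw [MonObj.mul_comp, h2, h2', MonObj.comp_mul, map_mul]⟩

omit [IsAlgClosed k] [IsAlgClosed K] [IsFractionRing V K] [ValuationRing V] [IsDomain V] [IsIntegral H.left]
  [IsIntegral H'.left] in
theorem Liftable.inv [IsMonHom i] [IsMonHom i'] {x : VecGrp.pt k k ⟶ H'} (hx : Liftable i i' x) :
    Liftable i i' x⁻¹ := by
  obtain ⟨s, c, h1, h2⟩ := hx
  exact ⟨s⁻¹, c⁻¹, by rw [GrpObj.inv_comp, h1, GrpObj.comp_inv, map_inv],
    by rw [GrpObj.inv_comp, h2, GrpObj.comp_inv, map_inv]⟩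

end Groth.Agent.SpecAff15
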