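import Groth.Agent.Lib.SpecAff15.Main
import Groth.Agent.Lib.SubSpec19.Stable
import Groth.Agent.Lib.SubSpec19.Field

/-!
# Specialisation of subgroups, remembering that the special subgroup lies in the closure
-/

set_option autoImplicit false
set_option linter.style.haveILetI false
set_option backward.isDefEq.respectTransparency false
set_option backward.isDefEq.respectTransparency.types false
set_option synthInstance.maxHeartbeats 400000
universe u

open CategoryTheory CategoryTheory.Limits MonoidalCategory CartesianMonoidalCategory MonObj GrpObj AlgebraicGeometry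

namespace Groth.Agent.SpecAff15

open SubSpec19

/-- The properties inherited by a specialised subgroup. -/
def Props {K k : Type u} [Field K] [Field k] (H : Over (Spec (CommRingCat.of K))) [GrpObj H]
    (H' : Over (Spec (CommRingCat.of k))) [GrpObj H'] : Prop :=
  (∀ (m : ℕ) (w : FreeGroup (Fin m)), Law H m w → Law H' m w) ∧ (IsAffine H.left → IsAffine H'.left) ∧
    (IsAffine H.left → Red.HasNoSubtorus K H → Red.HasNoSubtorus k H')

theorem Props.trans {K k l : Type u} [Field K] [Field k] [Field l] {H : Over (Spec (CommRingCat.of K))} [GrpObj H]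
    {H' : Over (Spec (CommRingCat.of k))} [GrpObj H'] {H'' : Over (Spec (CommRingCat.of l))} [GrpObj H'']
    (h : Props H H') (h' : Props H' H'') : Props H H'' :=
  ⟨fun m w hw => h'.1 m w (h.1 m w hw), fun ha => h'.2.1 (h.2.1 ha),
    fun ha hn => h'.2.2 (h.2.1 ha) (h.2.2 ha hn)⟩

section core

variable {V : Type u} [CommRing V] [IsDomain V] [ValuationRing V]
  {K : Type u} [Field K] [IsAlgClosed K] [Algebra V K] [IsFractionRing V K]

variable (G : Over (Spec (CommRingCat.of V))) [GrpObj G]
  {H : Over (Spec (CommRingCat.of K))} (i : H ⟶ Red.bc (Spec.map (CommRingCat.ofHom (algebraMap V K))) G)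
  [IsClosedImmersion i.left]

variable [GrpObj H] [IsMonHom i] [LocallyOfFinitePresentation G.hom] [QuasiCompact G.hom]
variable [Smooth H.hom] [ConnectedSpace H.left]

include i in
/-- The main result, with the position of the special subgroup. -/
theorem exists_special15 {k : Type u} [Field k] [IsAlgClosed k] (r : V →+* k) (hr : Function.Surjective r) :
    ∃ (H' : Over (Spec (CommRingCat.of k))) (_ : GrpObj H') (i' : H' ⟶ Red.bc (Spec.map (CommRingCat.ofHom r)) G),
      IsMonHom i' ∧ IsClosedImmersion i'.left ∧ Smooth H'.hom ∧ ConnectedSpace H'.left ∧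
      topologicalKrullDim H.left ≤ topologicalKrullDim H'.left ∧
      Set.range (i'.left ≫ pullback.fst G.hom (Spec.map (CommRingCat.ofHom r))) ⊆ closure (genSet G i) ∧
      ∀ (m : ℕ) (w : FreeGroup (Fin m)), Law H m w → Law H' m w := by
  haveI : LocallyOfFiniteType H.hom := inferInstance
  haveI : IsPreimmersion (Spec.map (CommRingCat.ofHom (algebraMap V K))) := IsPreimmersion.of_isLocalization (nonZeroDivisors V)
  let c := Spec.map (CommRingCat.ofHom r)
  haveI : IsClosedImmersion c := IsClosedImmersion.spec_of_surjective (CommRingCat.ofHom r) hr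
  -- the closure
  haveI : IrreducibleSpace H.left := GrpComp19.irreducibleSpace H
  let Z := closure (genSet G i)
  have hirr : IsIrreducible Z := by
    refine IsIrreducible.closure (IsIrreducible.image ?_ _ (pullback.fst G.hom (Spec.map (CommRingCat.ofHom (algebraMap V K)))).continuous.continuousOn)
    rw [← Set.image_univ]
    exact (IrreducibleSpace.isIrreducible_univ _).image _ i.left.continuous.continuousOn
  let I := Scheme.IdealSheafData.vanishingIdeal (⟨Z, isClosed_closure⟩ : TopologicalSpace.Closeds G.left)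
  haveI : IsReduced I.subscheme := RedSepLib.isReduced_vanishingIdeal_subscheme _
  let Hb : Over (Spec (CommRingCat.of V)) := Over.mk (I.subschemeι ≫ G.hom)
  let incl : Hb ⟶ G := Over.homMk I.subschemeι rfl
  haveI : IsClosedImmersion incl.left := inferInstanceAs (IsClosedImmersion I.subschemeι)
  haveI : IsReduced Hb.left := ‹IsReduced I.subscheme›
  have hrange : Set.range incl.left = Z := by
    show Set.range I.subschemeι = _
    rw [Scheme.IdealSheafData.range_subschemeι, Scheme.IdealSheafData.coe_support_vanishingIdeal]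
    rfl
  have hsub : ∀ {T : Over (Spec (CommRingCat.of V))} (g : T ⟶ Hb), Set.range (g ≫ incl).left ⊆ Z := by
    intro T g x hx
    rw [← hrange]
    obtain ⟨y, rfl⟩ := hx
    exact ⟨g.left y, by rw [Over.comp_left, Scheme.Hom.comp_apply]⟩
  have hlift : ∀ {T : Over (Spec (CommRingCat.of V))} [IsReduced T.left] (g : T ⟶ G),
      Set.range g.left ⊆ Z → ∃ g' : T ⟶ Hb, g' ≫ incl = g := by
    intro T _ g hg
    obtain ⟨l, hl⟩ := RedSepLib.exists_lift_of_range_subset g.left incl.left (hrange ▸ hg)
    exact ⟨Over.homMk l (by rw [← Over.w incl, reassoc_of% hl, Over.w g]), Over.OverMorphism.ext hl⟩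
  haveI : IrreducibleSpace Hb.left := irreducibleSpace_of_range incl.left.isEmbedding (hrange ▸ hirr)
  haveI : IsIntegral Hb.left := isIntegral_of_irreducibleSpace_of_isReduced _
  haveI : LocallyOfFiniteType Hb.hom := inferInstanceAs (LocallyOfFiniteType (I.subschemeι ≫ G.hom))
  -- surjectivity onto the base and flatness
  have hval : ∀ {m : ℕ} {T : Over (Spec (CommRingCat.of V))} [IsReduced T.left] (a : Fin m → (T ⟶ G)),
      (∀ j, Set.range (a j).left ⊆ Z) → Flat Hb.hom → ∀ w : FreeGroup (Fin m),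
        Set.range (FreeGroup.lift a w).left ⊆ Z := by
    intro m T _ a ha hfl w
    haveI := hfl
    choose b hb using fun j => hlift (a j) (ha j)
    obtain ⟨W, y, hW, hy⟩ := exists_univ Hb m
    obtain ⟨t, ht⟩ := hy T b
    have e : FreeGroup.lift a w = t ≫ FreeGroup.lift (fun j => y j ≫ incl) w := by
      rw [SubSpec19.comp_lift]
      congr 2
      funext j
      rw [← Category.assoc, ht, hb]
    rintro _ ⟨z, rfl⟩
    rw [e, Over.comp_left, Scheme.Hom.comp_apply]
    exact range_univ_subset G i (fun j => y j ≫ incl) (fun j => hsub (y j)) w ⟨_, rfl⟩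
  obtain ⟨h₀, hh₀⟩ : ∃ x : Hb.left, Hb.hom x = p0 (V := V) (K := K) := by
    obtain ⟨x, hx⟩ : (genSet G i).Nonempty := (Set.range_nonempty _).image _
    obtain ⟨y, hy⟩ : x ∈ Set.range incl.left := hrange ▸ subset_closure hx
    refine ⟨y, ?_⟩
    rw [← Over.w incl, Scheme.Hom.comp_apply, hy]
    exact ((closure_inter G i).ge hx).2
  haveI : IsDominant Hb.hom := ⟨fun v =>
    (p0_specializes (K := K) v).mem_closed isClosed_closure (subset_closure ⟨h₀, hh₀⟩)⟩
  haveI hfl : Flat Hb.hom := flat_of_isIntegral Hb.hom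
  haveI : IsReduced (𝟙_ (Over (Spec (CommRingCat.of V)))).left := inferInstanceAs (IsReduced (Spec (CommRingCat.of V)))
  have hη : Set.range η[G].left ⊆ Z := by
    have h := hval (T := 𝟙_ _) (Fin.elim0 : Fin 0 → (𝟙_ (Over (Spec (CommRingCat.of V))) ⟶ G))
      (fun j => j.elim0) hfl 1
    rwa [map_one, Hom.one_def, toUnit_unique (toUnit _) (𝟙 _), Category.id_comp] at h
  haveI : Surjective Hb.hom := ⟨fun v => by
    obtain ⟨y, hy⟩ : η[G].left v ∈ Set.range incl.left := hrange ▸ hη ⟨v, rfl⟩
    refine ⟨y, ?_⟩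
    rw [← Over.w incl, Scheme.Hom.comp_apply, hy, ← Scheme.Hom.comp_apply]
    have := Over.w η[G]
    rw [this]
    rfl⟩
  -- the special fibre
  let Gk := Red.bc c G
  haveI : LocallyOfFiniteType Gk.hom := inferInstanceAs (LocallyOfFiniteType (pullback.snd G.hom c))
  haveI : QuasiCompact Gk.hom := inferInstanceAs (QuasiCompact (pullback.snd G.hom c))
  let π := pullback.fst G.hom c
  have hvalk : ∀ {m : ℕ} {T : Over (Spec (CommRingCat.of k))} [IsReduced T.left] (a : Fin m → (T ⟶ Gk)),
      (∀ j, Set.range (a j).left ⊆ π ⁻¹' Z) → ∀ w : FreeGroup (Fin m),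
        Set.range (FreeGroup.lift a w).left ⊆ π ⁻¹' Z := by
    intro m T hT a ha w
    haveI : IsReduced ((Over.map c).obj T).left := inferInstanceAs (IsReduced T.left)
    have h := hval (T := (Over.map c).obj T) (fun j => (bcPts c T).symm (a j)) (by
      intro j
      rintro _ ⟨z, rfl⟩
      rw [bcPts_symm_left, Scheme.Hom.comp_apply]
      exact ha j ⟨z, rfl⟩) hfl w
    rintro _ ⟨z, rfl⟩
    have e : FreeGroup.lift (fun j => (bcPts c T).symm (a j)) w = (bcPts c T).symm (FreeGroup.lift a w) :=
      (hom_lift (bcPts c T).symm.toMonoidHom a w).symm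
    rw [e, bcPts_symm_left] at h
    exact h ⟨z, rfl⟩
  let J := Scheme.IdealSheafData.vanishingIdeal
    (⟨π ⁻¹' Z, isClosed_closure.preimage π.continuous⟩ : TopologicalSpace.Closeds Gk.left)
  haveI : IsReduced J.subscheme := RedSepLib.isReduced_vanishingIdeal_subscheme _
  let A : Over (Spec (CommRingCat.of k)) := Over.mk (J.subschemeι ≫ Gk.hom)
  let j₀ : A ⟶ Gk := Over.homMk J.subschemeι rfl
  haveI : IsClosedImmersion j₀.left := inferInstanceAs (IsClosedImmersion J.subschemeι)
  haveI : IsReduced A.left := ‹IsReduced J.subscheme›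
  have hA : Set.range j₀.left = π ⁻¹' Z := by
    show Set.range J.subschemeι = _
    rw [Scheme.IdealSheafData.range_subschemeι, Scheme.IdealSheafData.coe_support_vanishingIdeal]
    rfl
  have hliftk : ∀ {T : Over (Spec (CommRingCat.of k))} [IsReduced T.left] (g : T ⟶ Gk),
      Set.range g.left ⊆ π ⁻¹' Z → ∃ g' : T ⟶ A, g' ≫ j₀ = g := by
    intro T _ g hg
    obtain ⟨l, hl⟩ := RedSepLib.exists_lift_of_range_subset g.left j₀.left (hA ▸ hg)
    exact ⟨Over.homMk l (by rw [← Over.w j₀, reassoc_of% hl, Over.w g]), Over.OverMorphism.ext hl⟩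
  have hsubk : ∀ {T : Over (Spec (CommRingCat.of k))} (g : T ⟶ A), Set.range (g ≫ j₀).left ⊆ π ⁻¹' Z := by
    intro T g x hx
    rw [← hA]
    obtain ⟨y, rfl⟩ := hx
    exact ⟨g.left y, by rw [Over.comp_left, Scheme.Hom.comp_apply]⟩
  haveI : IsReduced (𝟙_ (Over (Spec (CommRingCat.of k)))).left := inferInstanceAs (IsReduced (Spec (CommRingCat.of k)))
  haveI : IsReduced (A ⊗ A).left := PerfProd19.isReduced_tensorObj A A
  haveI : Mono j₀ := Over.mono_of_mono_left j₀
  obtain ⟨e₁, he₁⟩ := hliftk η[Gk] (by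
    have h := hvalk (Fin.elim0 : Fin 0 → (𝟙_ (Over (Spec (CommRingCat.of k))) ⟶ Gk)) (fun j => j.elim0) 1
    rwa [map_one, Hom.one_def, toUnit_unique (toUnit _) (𝟙 _), Category.id_comp] at h)
  obtain ⟨m₁, hm₁⟩ := hliftk ((j₀ ⊗ₘ j₀) ≫ μ[Gk]) (by
    have h := hvalk ![fst A A ≫ j₀, snd A A ≫ j₀]
      (fun j => by fin_cases j <;> exact hsubk _) (FreeGroup.of 0 * FreeGroup.of 1)
    simpa [Hom.mul_def, lift_fst_comp_snd_comp] using h)
  obtain ⟨v₁, hv₁⟩ := hliftk (j₀ ≫ ι[Gk]) (by
    have h := hvalk ![j₀] (fun j => by fin_cases j; rw [← hA]; rfl) (FreeGroup.of 0)⁻¹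
    simpa [Hom.inv_def] using h)
  letI := AbRigid.grpObjOfMono j₀ e₁ he₁ m₁ hm₁ v₁ hv₁
  haveI : IsMonHom j₀ := ⟨he₁, hm₁⟩
  haveI : LocallyOfFiniteType A.hom := inferInstanceAs (LocallyOfFiniteType (J.subschemeι ≫ Gk.hom))
  haveI : QuasiCompact A.hom := inferInstanceAs (QuasiCompact (J.subschemeι ≫ Gk.hom))
  haveI : Smooth A.hom := GrpSmooth19.smooth_of_isReduced A
  obtain ⟨H', hH', j, hjm, hjo, hjc, hH's, hH'q, hH'c⟩ := AttrBorel21.exists_component_closed A
  haveI := hjm
  haveI := hjo
  haveI := hjc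
  haveI := hH's
  haveI := hH'q
  haveI := hH'c
  let i' : H' ⟶ Gk := j ≫ j₀
  haveI : IsMonHom i' := inferInstanceAs (IsMonHom (j ≫ j₀))
  haveI : IsClosedImmersion i'.left := inferInstanceAs (IsClosedImmersion (j.left ≫ j₀.left))
  refine ⟨H', hH', i', inferInstance, inferInstance, inferInstance, inferInstance, ?_, ?_, fun m w hw => ?_⟩
  · -- dimensions
    have hdim := S7624.result V Hb.left Hb.hom
    have hfib : ∀ v, Set.range (Hb.hom.fiberι v ≫ incl.left) = Z ∩ G.hom ⁻¹' {v} := by
      intro v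
      rw [Scheme.Hom.comp_base, TopCat.coe_comp, Set.range_comp, Scheme.Hom.range_fiberι]
      ext x
      constructor
      · rintro ⟨y, hy, rfl⟩
        refine ⟨hrange ▸ ⟨y, rfl⟩, ?_⟩
        rw [Set.mem_preimage, ← Scheme.Hom.comp_apply, Over.w incl]
        exact hy
      · rintro ⟨hx, hx'⟩
        obtain ⟨y, rfl⟩ := hrange ▸ hx
        refine ⟨y, ?_, rfl⟩
        rw [Set.mem_preimage, ← Over.w incl, Scheme.Hom.comp_apply]
        exact hx'
    have hgen : topologicalKrullDim ↥(Hb.hom.fiber (⟨⊥, Ideal.bot_prime⟩ : PrimeSpectrum V)) =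
        topologicalKrullDim H.left := by
      rw [← p0_eq (K := K)]
      refine dim_eq_of_range_eq (Hb.hom.fiberι _ ≫ incl.left).isEmbedding
        (i.left ≫ pullback.fst G.hom (Spec.map (CommRingCat.ofHom (algebraMap V K)))).isEmbedding ?_
      rw [hfib, closure_inter, Scheme.Hom.comp_base, TopCat.coe_comp, Set.range_comp]
      rfl
    let cl : Spec (CommRingCat.of V) := IsLocalRing.closedPoint V
    have hcl : c (IsLocalRing.closedPoint k) = cl := by
      refine PrimeSpectrum.ext ?_
      show Ideal.comap r (IsLocalRing.closedPoint k).asIdeal = IsLocalRing.maximalIdeal V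
      rw [show (IsLocalRing.closedPoint k).asIdeal = ⊥ from IsLocalRing.maximalIdeal_eq_bot, ← RingHom.ker_eq_comap_bot]
      exact IsLocalRing.eq_maximalIdeal (RingHom.ker_isMaximal_of_surjective r hr)
    have hc : Set.range c = {cl} := by
      refine Set.Subset.antisymm ?_ (Set.singleton_subset_iff.2 ⟨IsLocalRing.closedPoint k, ?_⟩)
      · rintro _ ⟨z, rfl⟩
        rw [Set.mem_singleton_iff, Subsingleton.elim (α := PrimeSpectrum k) z (IsLocalRing.closedPoint k)]
        exact hcl
      · exact hcl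
    have hr2 : Set.range (j₀.left ≫ π) = Set.range (Hb.hom.fiberι cl ≫ incl.left) := by
      rw [hfib, Scheme.Hom.comp_base, TopCat.coe_comp, Set.range_comp]
      erw [hA]
      refine Set.image_preimage_eq_inter_range.trans ?_
      exact congrArg (Z ∩ ·) ((Scheme.Pullback.range_fst G.hom c).trans (congrArg (G.hom ⁻¹' ·) hc))
    let φ : A.left ≃ₜ ↥(Hb.hom.fiber cl) := (j₀.left ≫ π).isEmbedding.toHomeomorph.trans
      ((Homeomorph.setCongr hr2).trans (Hb.hom.fiberι cl ≫ incl.left).isEmbedding.toHomeomorph.symm)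
    let e₀ := η[A].left (IsLocalRing.closedPoint k)
    have hC : connectedComponent e₀ ∈ irreducibleComponents A.left :=
      ⟨GrpComp19.isIrreducible_connectedComponent A e₀, fun B hB hle =>
        hB.isConnected.subset_connectedComponent (hle mem_connectedComponent)⟩
    have hC' : φ '' connectedComponent e₀ ∈ irreducibleComponents ↥(Hb.hom.fiber cl) :=
      ⟨hC.1.image _ φ.continuous.continuousOn, fun B hB hle => by
        have h1 : φ.symm '' B ⊆ connectedComponent e₀ := hC.2 (hB.image _ φ.symm.continuous.continuousOn)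
          (fun x hx => ⟨φ x, hle ⟨x, hx, rfl⟩, φ.symm_apply_apply x⟩)
        exact fun x hx => ⟨φ.symm x, h1 ⟨x, hx, rfl⟩, φ.apply_symm_apply x⟩⟩
    have h3 := hdim _ hC'
    rw [hgen] at h3
    have hjr : Set.range j.left = connectedComponent e₀ := by
      have he : e₀ ∈ Set.range j.left := AbRigid.one_mem_range j
      exact Set.Subset.antisymm ((isConnected_range j.left.continuous).subset_connectedComponent he)
        (IsClopen.connectedComponent_subset ⟨j.left.isClosedEmbedding.isClosed_range,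
          j.left.isOpenEmbedding.isOpen_range⟩ he)
    rw [← h3]
    refine le_of_eq (dim_eq_of_range_eq Topology.IsEmbedding.subtypeVal (φ.isEmbedding.comp j.left.isEmbedding) ?_)
    rw [Subtype.range_coe, Set.range_comp, hjr]
  · rintro _ ⟨z, rfl⟩
    exact hsubk j ⟨z, rfl⟩
  · -- laws
    intro T a
    haveI : Flat H'.hom := inferInstance
    haveI : GeometricallyConnected H'.hom := GrpGen20.geometricallyConnected_of_connected H'
    haveI : GeometricallyIntegral H'.hom := AbRigid.geometricallyIntegral_of_smooth H'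
    obtain ⟨W', y', hW'g, hW'l, hW'q, hy'⟩ : ∃ (W' : Over (Spec (CommRingCat.of k))) (y' : Fin m → (W' ⟶ H')),
        GeometricallyIntegral W'.hom ∧ LocallyOfFiniteType W'.hom ∧ QuasiCompact W'.hom ∧
        ∀ (T : Over (Spec (CommRingCat.of k))) (x : Fin m → (T ⟶ H')), ∃ t : T ⟶ W', ∀ j, t ≫ y' j = x j := by
      clear hw w a
      induction m with
      | zero =>
        refine ⟨𝟙_ _, Fin.elim0, ⟨fun L _ x W p₁ p₂ hW => ?_⟩, inferInstanceAs (LocallyOfFiniteType (𝟙 _)),
          inferInstanceAs (QuasiCompact (𝟙 _)), fun T x => ⟨toUnit T, fun j => j.elim0⟩⟩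
        haveI : IsIso (𝟙_ (Over (Spec (CommRingCat.of k)))).hom := inferInstanceAs (IsIso (𝟙 _))
        haveI : IsIso p₂ := hW.isIso_snd_of_isIso
        haveI : Nonempty W := ⟨(inv p₂) (IsLocalRing.closedPoint L)⟩
        exact isIntegral_of_isOpenImmersion p₂
      | succ m ih =>
        obtain ⟨W', y', hg, hl, hq, hy'⟩ := ih
        refine ⟨H' ⊗ W', Fin.cons (fst H' W') (fun j => snd H' W' ≫ y' j),
          AbRigid.geometricallyIntegral_tensorObj _ _,
          inferInstanceAs (LocallyOfFiniteType (Limits.pullback.fst H'.hom W'.hom ≫ H'.hom)),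
          inferInstanceAs (QuasiCompact (Limits.pullback.fst H'.hom W'.hom ≫ H'.hom)), fun T x => ?_⟩
        obtain ⟨t, ht⟩ := hy' T (fun j => x j.succ)
        refine ⟨lift (x 0) t, Fin.cases (by simp) (fun i => by simp [ht i])⟩
    haveI := hW'g
    haveI := hW'l
    obtain ⟨t, ht⟩ := hy' T a
    suffices hu : FreeGroup.lift y' w = 1 by
      rw [← funext ht, ← SubSpec19.comp_lift, hu, MonObj.comp_one]
    haveI : Mono i' := Over.mono_of_mono_left i'
    rw [← cancel_mono i', SubSpec19.lift_comp, MonObj.one_comp]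
    let W'V := (Over.map c).obj W'
    haveI : IsLocallyNoetherian W'.left := LocallyOfFiniteType.isLocallyNoetherian W'.hom
    haveI : IsIntegral W'.left := GeometricallyIntegral.isIntegral_of_subsingleton W'.hom
    haveI : IsReduced W'V.left := inferInstanceAs (IsReduced W'.left)
    let b : Fin m → (W'V ⟶ G) := fun l => (bcPts c W').symm (y' l ≫ i')
    have hb : ∀ l, Set.range (b l).left ⊆ Z := by
      intro l
      rintro _ ⟨z, rfl⟩
      show ((bcPts c W').symm (y' l ≫ j ≫ j₀)).left z ∈ Z
      rw [bcPts_symm_left]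
      refine (congrArg (· ∈ Z) (Scheme.Hom.comp_apply _ _ _)).mpr ?_
      exact hsubk (y' l ≫ j) ⟨z, by rw [Category.assoc]; rfl⟩
    choose bH hbH using fun l => hlift (b l) (hb l)
    obtain ⟨W, y, hW, hy⟩ := exists_univ Hb m
    obtain ⟨τ, hτ⟩ := hy W'V bH
    let a₁ : Fin m → (W ⟶ G) := fun l => y l ≫ incl
    let u₁ := FreeGroup.lift a₁ w
    -- the locus where the law holds
    let Δ := pullback.diagonal G.hom
    let d : W.left ⟶ pullback.diagonalObj G.hom := pullback.lift u₁.left (1 : W ⟶ G).left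
      ((Over.w u₁).trans (Over.w (1 : W ⟶ G)).symm)
    let E := pullback.fst d Δ
    haveI : IsImmersion E := inferInstance
    have hE : ∀ {P : Scheme.{u}} (q : P ⟶ W.left), q ≫ u₁.left = q ≫ (1 : W ⟶ G).left →
        Set.range q ⊆ Set.range E := by
      intro P q hq x hx
      obtain ⟨z, rfl⟩ := hx
      refine ⟨pullback.lift q (q ≫ u₁.left) (pullback.hom_ext ?_ ?_) z, ?_⟩
      · simp [d, Δ]
      · simp [d, Δ, hq]
      · rw [← Scheme.Hom.comp_apply, pullback.lift_fst]
    have hdense : ∀ p : W.left, ∃ p', p' ⤳ p ∧ p' ∈ Set.range E := by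
      intro p
      haveI := hW
      obtain ⟨p', hp', hp0⟩ := Flat.generalizingMap W.hom (p0_specializes (K := K) (W.hom p))
      obtain ⟨T', ν, h, z, hz, -, -, hν⟩ := exists_gen_point G i p' hp0 a₁ (fun l => hsub (y l))
      refine ⟨p', hp', hz ▸ hE ν.left ?_ ⟨z, rfl⟩⟩
      have e : ν ≫ u₁ = ν ≫ 1 := by
        rw [hν w, hw, MonObj.one_comp, map_one, MonObj.comp_one]
      exact congrArg CommaMorphism.left e
    have hopen : IsOpen (Set.range E) := by
      obtain ⟨U, C, hU, hC, hUC⟩ := E.isLocallyClosed_range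
      have : C = Set.univ := by
        refine Set.eq_univ_of_forall fun p => ?_
        obtain ⟨p', hp', hpE⟩ := hdense p
        exact hp'.mem_closed hC (hUC ▸ hpE).2
      rw [hUC, this, Set.inter_univ]; exact hU
    let O : W'.left.Opens := ⟨τ.left ⁻¹' Set.range E, hopen.preimage τ.left.continuous⟩
    obtain ⟨pp, hpp⟩ := hy' (𝟙_ _) (fun _ => 1)
    have hO : (O : Set W'.left).Nonempty := by
      refine ⟨pp.left (IsLocalRing.closedPoint k), ?_⟩
      refine hE (((Over.map c).map pp).left ≫ τ.left) ?_ ⟨IsLocalRing.closedPoint k, by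
        rw [Scheme.Hom.comp_apply]; rfl⟩
      have e : ((Over.map c).map pp ≫ τ) ≫ u₁ = ((Over.map c).map pp ≫ τ) ≫ 1 := by
        have h1 : ∀ l, ((Over.map c).map pp ≫ τ) ≫ a₁ l = 1 := fun l => by
          simp only [a₁, Category.assoc, reassoc_of% hτ, hbH, b]
          rw [← bcPts_symm_comp, ← Category.assoc, hpp, MonObj.one_comp, map_one]
        rw [SubSpec19.comp_lift, funext h1, MonObj.comp_one]
        exact lift_one w
      exact congrArg CommaMorphism.left e
    haveI : IsDominant O.ι := ⟨by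
      rw [DenseRange, Scheme.Opens.range_ι]
      exact O.2.dense hO⟩
    haveI : IsReduced O.toScheme := isReduced_of_isOpenImmersion O.ι
    obtain ⟨l, hl⟩ := exists_lift_immersion (O.ι ≫ τ.left) E (by
      rintro _ ⟨z, rfl⟩
      rw [Scheme.Hom.comp_apply]
      exact z.2)
    have hEeq : E ≫ u₁.left = E ≫ (1 : W ⟶ G).left := by
      have h1 := congrArg (fun φ => φ ≫ pullback.fst G.hom G.hom) (pullback.condition : E ≫ d = _ ≫ Δ)
      have h2 := congrArg (fun φ => φ ≫ pullback.snd G.hom G.hom) (pullback.condition : E ≫ d = _ ≫ Δ)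
      simp [d, Δ] at h1 h2
      exact h1.trans h2.symm
    have hτu : τ ≫ u₁ = (bcPts c W').symm (FreeGroup.lift (fun l => y' l ≫ i') w) := by
      rw [SubSpec19.comp_lift]
      refine Eq.trans ?_ (hom_lift (bcPts c W').symm.toMonoidHom (fun l => y' l ≫ i') w).symm
      congr 2
      funext l
      simp only [a₁, reassoc_of% hτ, hbH, b]
      rfl
    have hτ1 : τ ≫ (1 : W ⟶ G) = (bcPts c W').symm 1 := by
      rw [MonObj.comp_one, map_one]
    haveI := AbRigid.isSeparated_of_grpObj Gk
    refine Over.OverMorphism.ext (ext_of_isDominant_of_isSeparated Gk.hom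
      ((Over.w _).trans (Over.w _).symm) O.ι (pullback.hom_ext ?_ ?_))
    · simp only [Category.assoc]
      rw [← bcPts_symm_left, ← bcPts_symm_left, ← hτu, ← hτ1, Over.comp_left, Over.comp_left,
        ← Category.assoc, ← hl, Category.assoc, hEeq]
      rw [← Category.assoc, hl, Category.assoc]
    · simp only [Category.assoc]
      exact congrArg (O.ι ≫ ·) ((Over.w _).trans (Over.w (1 : W' ⟶ Gk)).symm)

include i in
/-- The main result, with affineness and absence of tori. -/
theorem exists_special_props {k : Type u} [Field k] [IsAlgClosed k] (r : V →+* k) (hr : Function.Surjective r) :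
    ∃ (H' : Over (Spec (CommRingCat.of k))) (_ : GrpObj H') (i' : H' ⟶ Red.bc (Spec.map (CommRingCat.ofHom r)) G),
      IsMonHom i' ∧ IsClosedImmersion i'.left ∧ Smooth H'.hom ∧ ConnectedSpace H'.left ∧
      topologicalKrullDim H.left ≤ topologicalKrullDim H'.left ∧ Props H H' := by
  obtain ⟨H', hH', i', h1, h2, h3, h4, hd, hx, hlaw⟩ := exists_special15 G i r hr
  haveI := h1
  haveI := h2
  haveI := h3
  haveI := h4
  haveI : LocallyOfFiniteType H.hom := inferInstance
  haveI : LocallyOfFiniteType H'.hom := inferInstance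
  haveI : QuasiCompact (Red.bc (Spec.map (CommRingCat.ofHom r)) G).hom :=
    inferInstanceAs (QuasiCompact (pullback.snd G.hom _))
  haveI : QuasiCompact H'.hom := by rw [← Over.w i']; infer_instance
  haveI : IrreducibleSpace H.left := GrpComp19.irreducibleSpace H
  haveI : IrreducibleSpace H'.left := GrpComp19.irreducibleSpace H'
  haveI : IsReduced H.left := OrbitTop19.isReduced_of_smooth H.hom
  haveI : IsReduced H'.left := OrbitTop19.isReduced_of_smooth H'.hom
  haveI : IsIntegral H.left := isIntegral_of_irreducibleSpace_of_isReduced _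
  haveI : IsIntegral H'.left := isIntegral_of_irreducibleSpace_of_isReduced _
  refine ⟨H', hH', i', h1, h2, h3, h4, hd, hlaw, fun ha => ?_, fun ha hn => ?_⟩
  · haveI := ha
    exact isAffine_special hr hx hd
  · haveI := ha
    exact hasNoSubtorus_special hr hx hd hn

end core

/-- Specialization of a subgroup along a morphism from the spectrum of a valuation ring. -/
theorem exists_special_over15 {S : Scheme.{u}} (G : Over S) [GrpObj G] [LocallyOfFinitePresentation G.hom]
    [QuasiCompact G.hom] {K : Type u} [Field K] [IsAlgClosed K] (V : ValuationSubring K)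
    {k : Type u} [Field k] [IsAlgClosed k] (r : V →+* k) (hr : Function.Surjective r)
    (a : Spec (CommRingCat.of V) ⟶ S) {b : Spec (CommRingCat.of K) ⟶ S} {b' : Spec (CommRingCat.of k) ⟶ S}
    (hb : Spec.map (CommRingCat.ofHom (algebraMap V K)) ≫ a = b) (hb' : Spec.map (CommRingCat.ofHom r) ≫ a = b')
    {H : Over (Spec (CommRingCat.of K))} [GrpObj H] (i : H ⟶ Red.bc b G) [IsMonHom i] [IsClosedImmersion i.left]
    [Smooth H.hom] [ConnectedSpace H.left] :
    ∃ (H' : Over (Spec (CommRingCat.of k))) (_ : GrpObj H') (i' : H' ⟶ Red.bc b' G),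
      IsMonHom i' ∧ IsClosedImmersion i'.left ∧ Smooth H'.hom ∧ ConnectedSpace H'.left ∧
      topologicalKrullDim H.left ≤ topologicalKrullDim H'.left ∧
      Props H H' := by
  haveI : LocallyOfFinitePresentation (Red.bc a G).hom :=
    inferInstanceAs (LocallyOfFinitePresentation (pullback.snd G.hom a))
  haveI : QuasiCompact (Red.bc a G).hom := inferInstanceAs (QuasiCompact (pullback.snd G.hom a))
  let e := SpreadSub19.bcComp a (Spec.map (CommRingCat.ofHom (algebraMap V K))) hb G
  let e' := SpreadSub19.bcComp a (Spec.map (CommRingCat.ofHom r)) hb' G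
  haveI : IsMonHom e.hom := SpreadSub19.bcComp_isMonHom _ _ hb G
  haveI : IsMonHom e.inv := inferInstance
  haveI : IsMonHom e'.hom := SpreadSub19.bcComp_isMonHom _ _ hb' G
  haveI : IsIso e.inv.left := inferInstanceAs (IsIso ((Over.forget _).map e.inv))
  haveI : IsIso e'.hom.left := inferInstanceAs (IsIso ((Over.forget _).map e'.hom))
  haveI : IsClosedImmersion (i ≫ e.inv).left := inferInstanceAs (IsClosedImmersion (i.left ≫ e.inv.left))
  obtain ⟨H', hH', i', hi', hc', hs', hcn', hd, hlaw⟩ := exists_special_props (Red.bc a G) (i ≫ e.inv) r hr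
  haveI := hi'
  haveI := hc'
  exact ⟨H', hH', i' ≫ e'.hom, inferInstance, inferInstanceAs (IsClosedImmersion (i'.left ≫ e'.hom.left)), hs', hcn',
    hd, hlaw⟩

/-- Subgroups of geometric fibres specialize, keeping their laws. -/
theorem exists_of_specializes15 {S : Scheme.{u}} (G : Over S) [GrpObj G] [LocallyOfFinitePresentation G.hom]
    [QuasiCompact G.hom] {s s' : S} (h : s ⤳ s')
    {H : Over (Spec (CommRingCat.of (AlgebraicClosure (S.residueField s))))} [GrpObj H]
    (i : H ⟶ Red.geomFibre s G) [IsMonHom i] [IsClosedImmersion i.left] [Smooth H.hom] [ConnectedSpace H.left] :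
    ∃ (H' : Over (Spec (CommRingCat.of (AlgebraicClosure (S.residueField s'))))) (_ : GrpObj H')
      (i' : H' ⟶ Red.geomFibre s' G),
      IsMonHom i' ∧ IsClosedImmersion i'.left ∧ Smooth H'.hom ∧ ConnectedSpace H'.left ∧
      topologicalKrullDim H.left ≤ topologicalKrullDim H'.left ∧
      Props H H' := by
  -- a valuation ring of the algebraic closure of κ(s) centred at s'
  let K := AlgebraicClosure (S.residueField s)
  let f : S.presheaf.stalk s' →+* K :=
    (algebraMap (S.residueField s) K).comp ((S.presheaf.stalkSpecializes h ≫ S.residue s).hom)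
  obtain ⟨V, hV, hloc⟩ := IsLocalRing.exists_factor_valuationRing f
  let φ : S.presheaf.stalk s' →+* V := f.codRestrict V.toSubring hV
  haveI : IsLocalHom φ := hloc
  let a : Spec (CommRingCat.of V) ⟶ S := Spec.map (CommRingCat.ofHom φ) ≫ S.fromSpecStalk s'
  let k₁ := IsLocalRing.ResidueField V
  haveI : IsAlgClosed k₁ := isAlgClosed_residueField V
  let θ : S.residueField s' →+* k₁ := IsLocalRing.ResidueField.map φ
  have hb : Spec.map (CommRingCat.ofHom (algebraMap V K)) ≫ a = Red.geomPt s := by
    show _ = Spec.map (CommRingCat.ofHom (algebraMap (S.residueField s) K)) ≫ Spec.map (S.residue s) ≫ S.fromSpecStalk s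
    rw [← Scheme.SpecMap_stalkSpecializes_fromSpecStalk h, ← Category.assoc, ← Category.assoc, ← Category.assoc,
      ← Spec.map_comp, ← Spec.map_comp, ← Spec.map_comp]
    rfl
  let b₁ : Spec (CommRingCat.of k₁) ⟶ S := Spec.map (CommRingCat.ofHom θ) ≫ S.fromSpecResidueField s'
  have hb₁ : Spec.map (CommRingCat.ofHom (IsLocalRing.residue V)) ≫ a = b₁ := by
    show _ = Spec.map (CommRingCat.ofHom θ) ≫ Spec.map (S.residue s') ≫ S.fromSpecStalk s'
    rw [← Category.assoc, ← Category.assoc, ← Spec.map_comp, ← Spec.map_comp]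
    rfl
  obtain ⟨H₁, _, i₁, hi₁, hc₁, hs₁, hcn₁, hd₁, hlaw₁⟩ :=
    exists_special_over15 G V (IsLocalRing.residue V) IsLocalRing.residue_surjective a hb hb₁ i
  haveI := hi₁
  haveI := hc₁
  haveI := hs₁
  haveI := hcn₁
  -- a place of k₁ over the algebraic closure of κ(s')
  let k := AlgebraicClosure (S.residueField s')
  letI : Algebra (S.residueField s') k₁ := θ.toAlgebra
  let ι₂ : k →ₐ[S.residueField s'] k₁ := IsAlgClosed.lift
  letI : Algebra k k₁ := ι₂.toRingHom.toAlgebra
  have hg : PlaceRat28.IsGraph (⊥ : Subalgebra k (k₁ × k)) := by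
    intro c hc
    obtain ⟨d, hd⟩ := Algebra.mem_bot.1 hc
    have h0 : algebraMap k k₁ d = 0 := congrArg Prod.fst hd
    have hc' : algebraMap k k d = c := congrArg Prod.snd hd
    rw [← hc', (algebraMap k k₁).injective (h0.trans (map_zero _).symm), map_zero]
  obtain ⟨V₂, res, hres, -, -⟩ := PlaceRat28.exists_valuationSubring (⊥ : Subalgebra k (k₁ × k)) hg
  choose hmem hval using hres
  let ι₃ : k →+* V₂ := (algebraMap k k₁).codRestrict V₂.toSubring hmem
  let a₂ : Spec (CommRingCat.of V₂) ⟶ S := Spec.map (CommRingCat.ofHom ι₃) ≫ Red.geomPt s'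
  have hb₂ : Spec.map (CommRingCat.ofHom (algebraMap V₂ k₁)) ≫ a₂ = b₁ := by
    show _ ≫ _ ≫ Spec.map (CommRingCat.ofHom (algebraMap (S.residueField s') k)) ≫ _ = _
    rw [← Category.assoc, ← Category.assoc, ← Spec.map_comp, ← Spec.map_comp]
    refine congrArg (fun q => Spec.map q ≫ S.fromSpecResidueField s') (CommRingCat.hom_ext ?_)
    exact ι₂.comp_algebraMap
  have hb₃ : Spec.map (CommRingCat.ofHom res) ≫ a₂ = Red.geomPt s' := by
    rw [← Category.assoc, ← Spec.map_comp,
      show CommRingCat.ofHom ι₃ ≫ CommRingCat.ofHom res = 𝟙 _ from CommRingCat.hom_ext (RingHom.ext hval),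
      Spec.map_id, Category.id_comp]
  obtain ⟨H', hH', i', h1, h2, h3, h4, hd', hlaw'⟩ :=
    exists_special_over15 G V₂ res (fun c => ⟨ι₃ c, hval c⟩) a₂ hb₂ hb₃ i₁
  exact ⟨H', hH', i', h1, h2, h3, h4, hd₁.trans hd', hlaw₁.trans hlaw'⟩

/-- Subgroups descend from an algebraically closed extension, keeping dimension and laws. -/
theorem exists_of_extension15 {k : Type u} [Field k] [IsAlgClosed k] {F : Type u} [Field F] [IsAlgClosed F] [Algebra k F]
    (G : Over (Spec (CommRingCat.of k))) [GrpObj G] [LocallyOfFiniteType G.hom] [QuasiCompact G.hom]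
    {U : Over (Spec (CommRingCat.of F))} [GrpObj U]
    (i : U ⟶ Red.bc (Spec.map (CommRingCat.ofHom (algebraMap k F))) G) [IsMonHom i] [IsClosedImmersion i.left]
    [Smooth U.hom] [ConnectedSpace U.left] :
    ∃ (U' : Over (Spec (CommRingCat.of k))) (_ : GrpObj U') (i' : U' ⟶ G),
      IsMonHom i' ∧ IsClosedImmersion i'.left ∧ Smooth U'.hom ∧ ConnectedSpace U'.left ∧
      topologicalKrullDim U.left ≤ topologicalKrullDim U'.left ∧
      Props U U' := by
  haveI : LocallyOfFinitePresentation G.hom := inferInstance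
  have hg : PlaceRat28.IsGraph (⊥ : Subalgebra k (F × k)) := by
    intro c hc
    obtain ⟨d, hd⟩ := Algebra.mem_bot.1 hc
    have h0 : algebraMap k F d = 0 := congrArg Prod.fst hd
    have hc' : algebraMap k k d = c := congrArg Prod.snd hd
    rw [← hc', (algebraMap k F).injective (h0.trans (map_zero _).symm), map_zero]
  obtain ⟨V, res, hres, -, -⟩ := PlaceRat28.exists_valuationSubring (⊥ : Subalgebra k (F × k)) hg
  choose hmem hval using hres
  let ι₃ : k →+* V := (algebraMap k F).codRestrict V.toSubring hmem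
  have hb : Spec.map (CommRingCat.ofHom (algebraMap V F)) ≫ Spec.map (CommRingCat.ofHom ι₃) =
      Spec.map (CommRingCat.ofHom (algebraMap k F)) := by
    rw [← Spec.map_comp]; rfl
  have hb' : Spec.map (CommRingCat.ofHom res) ≫ Spec.map (CommRingCat.ofHom ι₃) = 𝟙 _ := by
    rw [← Spec.map_comp,
      show CommRingCat.ofHom ι₃ ≫ CommRingCat.ofHom res = 𝟙 _ from CommRingCat.hom_ext (RingHom.ext hval),
      Spec.map_id]
  obtain ⟨U', hU', i', h1, h2, h3, h4, hd, hlaw⟩ :=
    exists_special_over15 G V res (fun c => ⟨ι₃ c, hval c⟩) (Spec.map (CommRingCat.ofHom ι₃)) hb hb' i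
  haveI := h1
  haveI := h2
  obtain ⟨p, hp, hpi⟩ := exists_iso_bc_id G
  haveI := hp
  haveI := hpi
  exact ⟨U', hU', i' ≫ p, inferInstance, inferInstanceAs (IsClosedImmersion (i'.left ≫ p.left)), h3, h4, hd, hlaw⟩

end Groth.Agent.SpecAff15
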