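import Mathlib.AlgebraicGeometry.Stalk
import Mathlib.AlgebraicGeometry.ResidueField
import Mathlib.AlgebraicGeometry.GammaSpecAdjunction
import Mathlib.AlgebraicGeometry.Morphisms.Preimmersion

/-!
# Maps of stalks characterised on spectra
-/

set_option autoImplicit false
set_option backward.isDefEq.respectTransparency false
set_option backward.isDefEq.respectTransparency.types false

universe u

open CategoryTheory AlgebraicGeometry

noncomputable section

namespace Groth.Agent.SpecAff15

variable {X Y : Scheme.{u}}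

/-- The map of stalks at a point and at a specialisation of its image. -/
def stalkHom (g : Y ⟶ X) (y : Y) {x : X} (h : g y ⤳ x) : X.presheaf.stalk x ⟶ Y.presheaf.stalk y :=
  X.presheaf.stalkSpecializes h ≫ g.stalkMap y

theorem stalkHom_spec (g : Y ⟶ X) (y : Y) {x : X} (h : g y ⤳ x) :
    Spec.map (stalkHom g y h) ≫ X.fromSpecStalk x = Y.fromSpecStalk y ≫ g := by
  rw [stalkHom, Spec.map_comp, Category.assoc, Scheme.SpecMap_stalkSpecializes_fromSpecStalk,
    Scheme.SpecMap_stalkMap_fromSpecStalk]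

theorem stalkHom_ext {x : X} {R : CommRingCat.{u}} {φ φ' : X.presheaf.stalk x ⟶ R}
    (h : Spec.map φ ≫ X.fromSpecStalk x = Spec.map φ' ≫ X.fromSpecStalk x) : φ = φ' :=
  Spec.map_injective ((cancel_mono _).1 h)

theorem germ_stalkHom (g : Y ⟶ X) (y : Y) {x : X} (h : g y ⤳ x) (U : X.Opens) (hx : x ∈ U) :
    X.presheaf.germ U x hx ≫ stalkHom g y h =
      g.app U ≫ Y.presheaf.germ (g ⁻¹ᵁ U) y (show g y ∈ U from h.mem_open U.2 hx) := by
  rw [stalkHom, TopCat.Presheaf.germ_stalkSpecializes_assoc, Scheme.Hom.germ_stalkMap]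

/-- The map from the base ring to a stalk. -/
def baseHom {A : CommRingCat.{u}} (p : X ⟶ Spec A) (x : X) : A ⟶ X.presheaf.stalk x :=
  Spec.preimage (X.fromSpecStalk x ≫ p)

theorem baseHom_spec {A : CommRingCat.{u}} (p : X ⟶ Spec A) (x : X) :
    Spec.map (baseHom p x) = X.fromSpecStalk x ≫ p := Spec.map_preimage _

theorem baseHom_eq {A : CommRingCat.{u}} (p : X ⟶ Spec A) (x : X) :
    baseHom p x = (Scheme.ΓSpecIso A).inv ≫ p.appTop ≫ X.presheaf.germ ⊤ x trivial := by
  refine Spec.map_injective ?_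
  rw [baseHom_spec, Spec.map_comp, Spec.map_comp, ← Scheme.fromSpecStalk_toSpecΓ, Category.assoc]
  rw [Category.assoc, ← Scheme.toSpecΓ_naturality_assoc, toSpecΓ_SpecMap_ΓSpecIso_inv, Category.comp_id]

theorem baseHom_comp {A B : CommRingCat.{u}} (g : Y ⟶ X) (p : X ⟶ Spec A) (q : Y ⟶ Spec B) (f : A ⟶ B)
    (w : g ≫ p = q ≫ Spec.map f) (y : Y) {x : X} (h : g y ⤳ x) :
    baseHom p x ≫ stalkHom g y h = f ≫ baseHom q y := by
  refine Spec.map_injective ?_
  rw [Spec.map_comp, Spec.map_comp, baseHom_spec, baseHom_spec, reassoc_of% stalkHom_spec g y h, w,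
    Category.assoc]

end Groth.Agent.SpecAff15
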